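import Mathlib
import Cfsg.Prelude.Def_SporadicB
import Cfsg.Agent.ThreeTransPolar.Basic

set_option autoImplicit false

/-!
# Fischer groups (S0480): the common language

`FGroup D` : `D` is a class of 3-transpositions of a finite group `G` without solvable normal
subgroups and with perfect derived subgroup.  `Dx D x` (commuting, `≠ x`), `Ax D x` (not commuting),
`X D x a` (commuting with both).  `Iso S T` : the closed sets `S ⊆ G`, `T ⊆ K` are isomorphic as
sets with conjugation.  `Typ op S` : the closed set `S ⊆ G` is isomorphic to the model `(M, op)`.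
-/

namespace Cfsg.Agent.TSp.Basic

open Cfsg Cfsg.Agent.SporadicStructure.FischerSpace Cfsg.Agent.ThreeTransPolar.Basic

universe u v w

section Defs

variable {G : Type u} [Group G]

/-- the commuting transpositions different from `x` -/
def Dx (D : Set G) (x : G) : Set G := {y | y ∈ D ∧ y ≠ x ∧ Commute x y}

/-- the transpositions not commuting with `x` -/
def Ax (D : Set G) (x : G) : Set G := {y | y ∈ D ∧ ¬ Commute x y}

/-- the members of `D` commuting with `x` and with `a` and different from both
(for noncommuting `x, a` : all members of `D` commuting with both) -/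
def XX (D : Set G) (x a : G) : Set G := {y | y ∈ D ∧ y ≠ x ∧ y ≠ a ∧ Commute x y ∧ Commute a y}

/-- Fischer groups -/
structure FGroup (D : Set G) : Prop where
  fin : Finite G
  cls : Cfsg.IsThreeTranspositionClass D
  hsol : ∀ N : Subgroup G, N.Normal → Group.IsSolvable ↥N → N = ⊥
  hperf : ⁅commutator G, commutator G⁆ = commutator G

/-- a set of elements of a group closed under conjugation by its own members -/
def Closed (S : Set G) : Prop := ∀ a ∈ S, ∀ b ∈ S, cj a b ∈ S

/-- a set of 3-transpositions, closed under conjugation by its own members -/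
structure TSet (S : Set G) : Prop where
  sq : ∀ x ∈ S, x * x = 1
  ne_one : ∀ x ∈ S, x ≠ 1
  closed : ∀ x ∈ S, ∀ y ∈ S, cj x y ∈ S
  braid : ∀ x ∈ S, ∀ y ∈ S, ¬ Commute x y → cj x y = cj y x

/-- isomorphism of sets with conjugation -/
def Iso {K : Type v} [Group K] (S : Set G) (T : Set K) : Prop :=
  ∃ f : G → K, Set.BijOn f S T ∧ ∀ a ∈ S, ∀ b ∈ S, f (cj a b) = cj (f a) (f b)

/-- the set `S` with conjugation is isomorphic to the model `(M, op)` -/
def Typ {M : Type v} (op : M → M → M) (S : Set G) : Prop :=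
  ∃ f : M → G, Function.Injective f ∧ Set.range f = S ∧ ∀ a b, f (op a b) = cj (f a) (f b)

end Defs

/-! ### TSet basics -/

namespace TSet

variable {G : Type u} [Group G] {S : Set G}

theorem inv_eq (h : TSet S) {x : G} (hx : x ∈ S) : x⁻¹ = x :=
  inv_eq_of_mul_eq_one_left (h.sq x hx)

theorem cj_eq (h : TSet S) {x : G} (hx : x ∈ S) (y : G) : cj x y = x * y * x := by
  rw [cj_def, h.inv_eq hx]

theorem cj_inv_eq (h : TSet S) {x : G} (hx : x ∈ S) (y : G) : cj x⁻¹ y = cj x y := by
  rw [h.inv_eq hx]

theorem cj_cj_self (h : TSet S) {x : G} (hx : x ∈ S) (y : G) : cj x (cj x y) = y := by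
  rw [← cj_mul, h.sq x hx, cj_one]

theorem commute_cj_left' (h : TSet S) {x y z : G} (hx : x ∈ S) :
    Commute (cj x y) z ↔ Commute y (cj x z) := by
  rw [commute_cj_left, h.cj_inv_eq hx]

/-- conjugation by the third point of a line interchanges the other two -/
theorem cj_third (h : TSet S) {x y : G} (hx : x ∈ S) (hy : y ∈ S) (hxy : ¬ Commute x y) :
    cj (cj x y) x = y := by
  rw [cj_cj, h.cj_inv_eq hx, cj_self, h.braid y hy x hx (fun h1 => hxy h1.symm), h.cj_cj_self hx]

theorem cj_third' (h : TSet S) {x y : G} (hx : x ∈ S) (hy : y ∈ S) (hxy : ¬ Commute x y) :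
    cj (cj x y) y = x := by
  rw [h.braid x hx y hy hxy, h.cj_third hy hx (fun h1 => hxy h1.symm)]

theorem not_commute_third (h : TSet S) {x y : G} (hx : x ∈ S) (hxy : ¬ Commute x y) :
    ¬ Commute (cj x y) x := by
  rw [h.commute_cj_left' hx, cj_self]
  exact fun h1 => hxy h1.symm

theorem not_commute_third' (h : TSet S) {x y : G} (hx : x ∈ S) (hy : y ∈ S)
    (hxy : ¬ Commute x y) : ¬ Commute (cj x y) y := by
  rw [h.braid x hx y hy hxy]
  exact h.not_commute_third hy (fun h1 => hxy h1.symm)

theorem third_ne_left (h : TSet S) {x y : G} (hx : x ∈ S) (hxy : ¬ Commute x y) : cj x y ≠ x :=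
  fun h1 => h.not_commute_third hx hxy (by rw [h1])

/-- `y ⟂ a`, `y` not commuting with `b`, `a`, `b` not commuting: `y` does not commute with the
third point -/
theorem not_commute_cj (h : TSet S) {a b y : G} (ha : a ∈ S)
    (hya : Commute y a) (hyb : ¬ Commute y b) : ¬ Commute y (cj a b) := by
  intro h1
  apply hyb
  have h2 := (h.commute_cj_left' ha (y := b) (z := y)).1 h1.symm
  rw [cj_of_commute hya.symm] at h2
  exact h2.symm

theorem cube (h : TSet S) {x y : G} (hx : x ∈ S) (hy : y ∈ S)
    (hxy : ¬ Commute x y) : (x * y) * (x * y) * (x * y) = 1 := by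
  have h1 := h.braid x hx y hy hxy
  rw [h.cj_eq hx, h.cj_eq hy] at h1
  calc (x * y) * (x * y) * (x * y) = (x * y * x) * (y * x * y) := by group
    _ = (x * y * x) * (x * y * x) := by rw [h1]
    _ = x * (y * (x * x) * y) * x := by group
    _ = 1 := by rw [h.sq x hx, mul_one, h.sq y hy, mul_one, h.sq x hx]

end TSet

/-- For `FData D` : `D` is a `TSet`. -/
theorem tset_of_fdata {G : Type u} [Group G] {D : Set G} (h : FData D) : TSet D where
  sq := h.sq
  ne_one := h.ne_one
  closed := fun x _ y hy => h.conj x y hy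
  braid := fun _ hx _ hy hxy => third_comm h hx hy hxy

theorem TSet.subset_closed {G : Type u} [Group G] {S T : Set G} (h : TSet S) (hT : T ⊆ S)
    (hc : ∀ x ∈ T, ∀ y ∈ T, cj x y ∈ T) : TSet T where
  sq := fun x hx => h.sq x (hT hx)
  ne_one := fun x hx => h.ne_one x (hT hx)
  closed := hc
  braid := fun x hx y hy hxy => h.braid x (hT hx) y (hT hy) hxy

theorem dx_closed {G : Type u} [Group G] {D : Set G} (h : TSet D) (x : G) :
    TSet (Dx D x) := by
  refine h.subset_closed (fun y hy => hy.1) ?_
  rintro y ⟨hy, hyx, hxy⟩ z ⟨hz, hzx, hxz⟩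
  refine ⟨h.closed y hy z hz, ?_, commute_cj_of hxy hxz⟩
  intro h1
  apply hzx
  have h2 : cj y (cj y z) = z := h.cj_cj_self hy z
  rw [h1, cj_of_commute hxy.symm] at h2
  exact h2.symm

end Cfsg.Agent.TSp.Basic
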