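import Mathlib
import Cfsg.Agent.TSp.Basic

set_option autoImplicit false

/-!
# The noncommuting graph is simply connected: generators of the stabilizer of a transposition

`S` : a set of 3-transpositions, `Δ ⊆ S` normalised by `S` such that two commuting members of `Δ`
have a common noncommuting neighbour in `Δ`.  Then for `x ∈ Δ` the elements of `⟨S⟩` commuting with
`x` are generated by the members of `S` commuting with `x` and the elements `tri x a b`
(`x, a, b` pairwise noncommuting, `x` not commuting with `a ∘ b`, i.e. an affine plane).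
-/

namespace Cfsg.Agent.TSp.SimpleConn

open Cfsg Cfsg.Agent.SporadicStructure.FischerSpace Cfsg.Agent.ThreeTransPolar.Basic
open Cfsg.Agent.TSp.Basic

variable {G : Type*} [Group G]

/-- the closing element of the triangle `x, a, b` -/
def tri (x a b : G) : G := cj x b * cj a b * cj x a

/-- the generators of the stabilizer of `x` -/
def gens (S Δ : Set G) (x : G) : Set G :=
  {y | y ∈ S ∧ Commute y x} ∪
    {t | ∃ a ∈ Δ, ∃ b ∈ Δ, ¬ Commute x a ∧ ¬ Commute x b ∧ ¬ Commute a b ∧ ¬ Commute x (cj a b) ∧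
      t = tri x a b}

/-- the subgroup generated by them -/
def MM (S Δ : Set G) (x : G) : Subgroup G := Subgroup.closure (gens S Δ x)

structure Setup (S Δ : Set G) : Prop where
  tset : TSet S
  sub : Δ ⊆ S
  norm : ∀ s ∈ S, ∀ a ∈ Δ, cj s a ∈ Δ
  both : ∀ x ∈ Δ, ∀ y ∈ Δ, Commute x y → ∃ u ∈ Δ, ¬ Commute u x ∧ ¬ Commute u y

theorem mem_MM_of_commute {S Δ : Set G} {x y : G} (hy : y ∈ S) (h : Commute y x) :
    y ∈ MM S Δ x := Subgroup.subset_closure (Or.inl ⟨hy, h⟩)

theorem tri_mem (S Δ : Set G) (h : Setup S Δ) {x a b : G} (hx : x ∈ Δ) (ha : a ∈ Δ) (hb : b ∈ Δ)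
    (hxa : ¬ Commute x a) (hxb : ¬ Commute x b) (hab : ¬ Commute a b) :
    tri x a b ∈ MM S Δ x := by
  by_cases hc : Commute x (cj a b)
  · have hT := h.tset
    have hxS := h.sub hx
    have haS := h.sub ha
    have hbS := h.sub hb
    have e : tri x a b = cj a b := by
      have h1 : cj x b = x * b * x := hT.cj_eq hxS b
      have h2 : cj x a = x * a * x := hT.cj_eq hxS a
      have h3 : cj a b = a * b * a := hT.cj_eq haS b
      have h4 : cj a b = b * a * b := by rw [hT.braid a haS b hbS hab, hT.cj_eq hbS a]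
      have hxx := hT.sq x hxS
      have haa := hT.sq a haS
      have hc' : x * cj a b = cj a b * x := hc.eq
      calc tri x a b = x * b * (x * cj a b) * x * a * x := by
            rw [tri, h1, h2]; simp only [mul_assoc]
        _ = x * b * cj a b * (x * x) * a * x := by rw [hc']; simp only [mul_assoc]
        _ = x * (b * a * b) * (a * a) * x := by rw [hxx, h3]; simp only [mul_assoc, one_mul]
        _ = (x * cj a b) * x := by rw [haa, mul_one, ← h4]
        _ = cj a b := by rw [hc', mul_assoc, hxx, mul_one]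
    rw [e]
    exact mem_MM_of_commute (hT.closed a haS b hbS) hc.symm
  · exact Subgroup.subset_closure (Or.inr ⟨a, ha, b, hb, hxa, hxb, hab, hc, rfl⟩)

section Main

variable {S Δ : Set G} (h : Setup S Δ) {x : G} (hx : x ∈ Δ)

/-- the base coset -/
def base (S Δ : Set G) (x : G) : G ⧸ MM S Δ x := ((1 : G) : G ⧸ MM S Δ x)

theorem smul_base_eq_iff {g k : G} :
    g • base S Δ x = k • base S Δ x ↔ g⁻¹ * k ∈ MM S Δ x := by
  simp only [base]
  rw [← QuotientGroup.eq (s := MM S Δ x)]
  constructor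
  · intro h1
    have e1 : g • ((1 : G) : G ⧸ MM S Δ x) = ((g * 1 : G) : G ⧸ MM S Δ x) := rfl
    have e2 : k • ((1 : G) : G ⧸ MM S Δ x) = ((k * 1 : G) : G ⧸ MM S Δ x) := rfl
    rw [e1, e2, mul_one, mul_one] at h1
    exact h1
  · intro h1
    have e1 : g • ((1 : G) : G ⧸ MM S Δ x) = ((g * 1 : G) : G ⧸ MM S Δ x) := rfl
    have e2 : k • ((1 : G) : G ⧸ MM S Δ x) = ((k * 1 : G) : G ⧸ MM S Δ x) := rfl
    rw [e1, e2, mul_one, mul_one]
    exact h1

theorem smul_base_eq_base_iff {g : G} : g • base S Δ x = base S Δ x ↔ g ∈ MM S Δ x := by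
  have := smul_base_eq_iff (S := S) (Δ := Δ) (x := x) (g := g) (k := 1)
  rw [one_smul] at this
  rw [this, mul_one, inv_mem_iff]

include h hx

/-- triangles close up, at the base point -/
theorem tri_base {a b : G} (ha : a ∈ Δ) (hb : b ∈ Δ)
    (hxa : ¬ Commute x a) (hxb : ¬ Commute x b) (hab : ¬ Commute a b) :
    cj a b • cj x a • base S Δ x = cj x b • base S Δ x := by
  rw [← mul_smul, smul_base_eq_iff]
  have h1 := tri_mem S Δ h hx ha hb hxa hxb hab
  have h2 := inv_mem h1
  have e : (cj a b * cj x a)⁻¹ * cj x b = (tri x a b)⁻¹ := by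
    have hT := h.tset
    have h3 : (cj x b)⁻¹ = cj x b := hT.inv_eq (hT.closed x (h.sub hx) b (h.sub hb))
    rw [tri, mul_assoc, mul_inv_rev (cj x b), h3]
  rw [e]; exact h2

/-- triangles close up, at any point -/
theorem tri_gen {a b c g : G} (ha : a ∈ Δ) (hb : b ∈ Δ) (hc : c ∈ Δ)
    (hab : ¬ Commute a b) (hbc : ¬ Commute b c) (hac : ¬ Commute a c)
    (hg : ∀ z ∈ Δ, cj g⁻¹ z ∈ Δ) (hga : cj g x = a) :
    cj b c • cj a b • g • base S Δ x = cj a c • g • base S Δ x := by
  have hb' := hg b hb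
  have hc' := hg c hc
  have hxa : cj g⁻¹ a = x := by rw [← hga, cj_inv_cj]
  have t := tri_base h hx hb' hc' (a := cj g⁻¹ b) (b := cj g⁻¹ c)
    (by rw [← hxa, commute_cj]; exact hab) (by rw [← hxa, commute_cj]; exact hac)
    (by rw [commute_cj]; exact hbc)
  have t' := congrArg (fun q => g • q) t
  simp only [← mul_smul] at t' ⊢
  have e1 : g * cj (cj g⁻¹ b) (cj g⁻¹ c) * cj x (cj g⁻¹ b) = cj b c * cj a b * g := by
    rw [← hxa]
    simp only [cj_def]; group
  have e2 : g * cj x (cj g⁻¹ c) = cj a c * g := by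
    rw [← hxa]
    simp only [cj_def]; group
  rw [← mul_assoc, e1, e2, mul_assoc] at t'
  exact t'

/-- two choices of the intermediate point, adjacent case -/
theorem mid_adj {z w w' : G} (hz : z ∈ Δ) (hw : w ∈ Δ) (hw' : w' ∈ Δ)
    (hwx : ¬ Commute w x) (hwz : ¬ Commute w z) (hwx' : ¬ Commute w' x) (hwz' : ¬ Commute w' z)
    (hww : ¬ Commute w w') :
    cj w z • cj x w • base S Δ x = cj w' z • cj x w' • base S Δ x := by
  have hxw : ¬ Commute x w := fun h1 => hwx h1.symm
  have hxw' : ¬ Commute x w' := fun h1 => hwx' h1.symm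
  have hT := h.tset
  have t1 := tri_base h hx hw hw' hxw hxw' hww
  rw [← t1]
  symm
  refine tri_gen h hx hw hw' hz hww hwz' hwz (g := cj x w) ?_ ?_
  · intro u hu
    have hxwS := hT.closed x (h.sub hx) w (h.sub hw)
    rw [hT.inv_eq hxwS]
    exact h.norm _ hxwS u hu
  · exact hT.cj_third (h.sub hx) (h.sub hw) hxw

theorem mid_unique {z w w' : G} (hz : z ∈ Δ) (hw : w ∈ Δ) (hw' : w' ∈ Δ) (hxz : Commute x z)
    (hwx : ¬ Commute w x) (hwz : ¬ Commute w z) (hwx' : ¬ Commute w' x) (hwz' : ¬ Commute w' z) :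
    cj w z • cj x w • base S Δ x = cj w' z • cj x w' • base S Δ x := by
  have hT := h.tset
  by_cases hww : Commute w w'
  · have hxw : ¬ Commute x w := fun h1 => hwx h1.symm
    have hv : cj x w ∈ Δ := h.norm x (h.sub hx) w hw
    have hvx : ¬ Commute (cj x w) x := hT.not_commute_third (h.sub hx) hxw
    have hvz : ¬ Commute (cj x w) z := by
      intro h1
      exact hT.not_commute_cj (h.sub hx) hxz.symm (fun h2 => hwz h2.symm) h1.symm
    have hwv : ¬ Commute w (cj x w) := by
      intro h1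
      exact hT.not_commute_third' (h.sub hx) (h.sub hw) hxw h1.symm
    have hvw' : ¬ Commute (cj x w) w' := by
      intro h1
      rw [hT.braid x (h.sub hx) w (h.sub hw) hxw] at h1
      exact hT.not_commute_cj (h.sub hw) hww.symm hwx' h1.symm
    rw [mid_adj h hx hz hw hv hwx hwz hvx hvz hwv,
      mid_adj h hx hz hv hw' hvx hvz hwx' hwz' hvw']
  · exact mid_adj h hx hz hw hw' hwx hwz hwx' hwz' hww

omit h hx in
/-- the canonical sheet over `z` -/
def R (S Δ : Set G) (x z : G) (c : G ⧸ MM S Δ x) : Prop :=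
  (z = x ∧ c = base S Δ x) ∨ (¬ Commute x z ∧ c = cj x z • base S Δ x) ∨
    (z ≠ x ∧ Commute x z ∧ ∃ w ∈ Δ, ¬ Commute w x ∧ ¬ Commute w z ∧
      c = cj w z • cj x w • base S Δ x)

omit h hx in
theorem R_base_unique {c : G ⧸ MM S Δ x} (hc : R S Δ x x c) : c = base S Δ x := by
  rcases hc with ⟨-, h1⟩ | ⟨h1, -⟩ | ⟨h1, -⟩
  · exact h1
  · exact absurd (Commute.refl x) h1
  · exact absurd rfl h1

/-- the edge property -/
theorem R_edge {y y' : G} (hy : y ∈ Δ) (hy' : y' ∈ Δ) (hyy : ¬ Commute y y')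
    {c : G ⧸ MM S Δ x} (hc : R S Δ x y c) : R S Δ x y' (cj y y' • c) := by
  have hT := h.tset
  have hsq : ∀ u v : G, u ∈ S → v ∈ S → ∀ q : G ⧸ MM S Δ x, cj u v • cj u v • q = q := by
    intro u v hu hv q
    rw [← mul_smul, hT.sq _ (hT.closed u hu v hv), one_smul]
  rcases hc with ⟨rfl, rfl⟩ | ⟨hxy, rfl⟩ | ⟨hyx, hxy, w, hw, hwx, hwy, rfl⟩
  · exact Or.inr (Or.inl ⟨hyy, rfl⟩)
  · by_cases h1 : y' = x
    · subst h1
      left
      refine ⟨rfl, ?_⟩
      rw [hT.braid y (h.sub hy) y' (h.sub hy') hyy, hsq _ _ (h.sub hy') (h.sub hy)]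
    · by_cases h2 : Commute x y'
      · right; right
        exact ⟨h1, h2, y, hy, fun h3 => hxy h3.symm, hyy, rfl⟩
      · right; left
        exact ⟨h2, tri_base h hx hy hy' hxy h2 hyy⟩
  · have h1 : y' ≠ x := by
      rintro rfl
      exact hyy hxy.symm
    by_cases h2 : Commute x y'
    · -- all of x, y, y' have a common neighbour
      obtain ⟨u, hu, hux, huy, huy'⟩ : ∃ u ∈ Δ, ¬ Commute u x ∧ ¬ Commute u y ∧
          ¬ Commute u y' := by
        by_cases h3 : Commute w y'
        · refine ⟨cj w y, h.norm w (h.sub hw) y hy, ?_, ?_, ?_⟩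
          · intro h4
            rw [hT.braid w (h.sub hw) y (h.sub hy) hwy] at h4
            exact hT.not_commute_cj (h.sub hy) hxy (fun h5 => hwx h5.symm) h4.symm
          · exact hT.not_commute_third' (h.sub hw) (h.sub hy) hwy
          · intro h4
            exact hT.not_commute_cj (h.sub hw) h3.symm (fun h5 => hyy h5.symm) h4.symm
        · exact ⟨w, hw, hwx, hwy, h3⟩
      rw [mid_unique h hx hy hw hu hxy hwx hwy hux huy]
      right; right
      refine ⟨h1, h2, u, hu, hux, huy', ?_⟩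
      refine tri_gen h hx hu hy hy' huy hyy huy' (g := cj x u) ?_ ?_
      · intro v hv
        have hxuS := hT.closed x (h.sub hx) u (h.sub hu)
        rw [hT.inv_eq hxuS]
        exact h.norm _ hxuS v hv
      · exact hT.cj_third (h.sub hx) (h.sub hu) (fun h4 => hux h4.symm)
    · right; left
      refine ⟨h2, ?_⟩
      rw [mid_unique h hx hy hw hy' hxy hwx hwy (fun h3 => h2 h3.symm) (fun h3 => hyy h3.symm),
        hT.braid y (h.sub hy) y' (h.sub hy') hyy, hsq _ _ (h.sub hy') (h.sub hy)]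

/-- equivariance -/
theorem R_smul {s z : G} (hs : s ∈ S) (hz : z ∈ Δ) {c : G ⧸ MM S Δ x} (hc : R S Δ x z c) :
    R S Δ x (cj s z) (s • c) := by
  have hT := h.tset
  have hbase : R S Δ x (cj s x) (s • base S Δ x) := by
    by_cases h1 : Commute s x
    · left
      exact ⟨cj_of_commute h1, smul_base_eq_base_iff.2 (mem_MM_of_commute hs h1)⟩
    · right; left
      have h2 : ¬ Commute x s := fun h3 => h1 h3.symm
      refine ⟨?_, ?_⟩
      · rw [hT.braid s hs x (h.sub hx) h1]
        exact fun h3 => hT.not_commute_third (h.sub hx) h2 h3.symm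
      · rw [hT.braid s hs x (h.sub hx) h1, hT.cj_cj_self (h.sub hx)]
  rcases hc with ⟨rfl, rfl⟩ | ⟨hxy, rfl⟩ | ⟨hyx, hxy, w, hw, hwx, hwy, rfl⟩
  · exact hbase
  · have e : s • cj x z • base S Δ x = cj (cj s x) (cj s z) • s • base S Δ x := by
      simp only [← mul_smul]
      congr 1
      simp only [cj_def]; group
    rw [e]
    exact R_edge h hx (h.norm s hs x hx) (h.norm s hs z hz) (by rw [commute_cj]; exact hxy) hbase
  · have e : s • cj w z • cj x w • base S Δ x =
        cj (cj s w) (cj s z) • cj (cj s x) (cj s w) • s • base S Δ x := by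
      simp only [← mul_smul]
      congr 1
      simp only [cj_def]; group
    rw [e]
    refine R_edge h hx (h.norm s hs w hw) (h.norm s hs z hz) (by rw [commute_cj]; exact hwy) ?_
    exact R_edge h hx (h.norm s hs x hx) (h.norm s hs w hw)
      (by rw [commute_cj]; exact fun h3 => hwx h3.symm) hbase

/-- **Generators of the stabilizer.** -/
theorem mem_MM_of_commute_of_mem {g : G} (hg : g ∈ Subgroup.closure S) (hgx : Commute g x) :
    g ∈ MM S Δ x := by
  have hT := h.tset
  have key : ∀ g ∈ Subgroup.closure S,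
      (∀ z ∈ Δ, ∀ c, R S Δ x z c → cj g z ∈ Δ ∧ R S Δ x (cj g z) (g • c)) ∧
      (∀ z ∈ Δ, ∀ c, R S Δ x z c → cj g⁻¹ z ∈ Δ ∧ R S Δ x (cj g⁻¹ z) (g⁻¹ • c)) := by
    intro g hg
    induction hg using Subgroup.closure_induction with
    | mem s hs =>
      rw [hT.inv_eq hs]
      exact ⟨fun z hz c hc => ⟨h.norm s hs z hz, R_smul h hx hs hz hc⟩,
        fun z hz c hc => ⟨h.norm s hs z hz, R_smul h hx hs hz hc⟩⟩
    | one =>
      rw [inv_one]
      have : ∀ z ∈ Δ, ∀ c, R S Δ x z c → cj 1 z ∈ Δ ∧ R S Δ x (cj 1 z) ((1 : G) • c) := by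
        intro z hz c hc; rw [cj_one, one_smul]; exact ⟨hz, hc⟩
      exact ⟨this, this⟩
    | mul a b _ _ ha hb =>
      constructor
      · intro z hz c hc
        obtain ⟨h1, h2⟩ := hb.1 z hz c hc
        rw [cj_mul, mul_smul]
        exact ha.1 _ h1 _ h2
      · intro z hz c hc
        obtain ⟨h1, h2⟩ := ha.2 z hz c hc
        rw [mul_inv_rev, cj_mul, mul_smul]
        exact hb.2 _ h1 _ h2
    | inv a _ ha =>
      refine ⟨ha.2, ?_⟩
      rw [inv_inv]
      exact ha.1
  obtain ⟨-, h2⟩ := (key g hg).1 x hx (base S Δ x) (Or.inl ⟨rfl, rfl⟩)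
  rw [cj_of_commute hgx] at h2
  exact smul_base_eq_base_iff.1 (R_base_unique h2)

end Main

end Cfsg.Agent.TSp.SimpleConn
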