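import Mathlib
import Cfsg.Agent.TSp.SimpleConn

set_option autoImplicit false

/-!
# Affine planes of a set of 3-transpositions

`Aff S x a b` : `x, a, b ∈ S` pairwise noncommuting and `x` does not commute with `a ∘ b`.
`Pl S p` : `p : ZMod 3 × ZMod 3 → G` is an affine plane: its values are in `S`, pairwise
noncommuting, and `p u ∘ p v = p (-u-v)`.
`exists_pl` : every `Aff S x a b` spans a plane; `tri x a b = ⁅x*b, x*a⁆ * x`, where the commutator
commutes with all the points of the plane and has cube one.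
-/

namespace Cfsg.Agent.TSp.Plane

open Cfsg Cfsg.Agent.SporadicStructure.FischerSpace Cfsg.Agent.ThreeTransPolar.Basic
open Cfsg.Agent.TSp.Basic Cfsg.Agent.TSp.SimpleConn

section Words

variable {G : Type*} [Group G] {e f : G}

/-- in a group generated by `e, f` with `e³ = f³ = (ef)³ = (ef⁻¹)³ = 1` the element `e` commutes
with `f e f⁻¹` -/
theorem commute_of_cubes (hf : f * f * f = 1) (hef : (e * f) * (e * f) * (e * f) = 1)
    (hef' : (e * f⁻¹) * (e * f⁻¹) * (e * f⁻¹) = 1) : Commute e (f * e * f⁻¹) := by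
  have hff : f * f = f⁻¹ := by rw [eq_inv_iff_mul_eq_one]; exact hf
  have h1 : f⁻¹ * e * f = e⁻¹ * (f * e⁻¹ * f⁻¹) := by
    have h : f⁻¹ * e * f⁻¹ = e⁻¹ * f * e⁻¹ := by
      have : e * (f⁻¹ * e * f⁻¹) * (e * f⁻¹) = 1 := by rw [← hef']; group
      calc f⁻¹ * e * f⁻¹ = e⁻¹ * (e * (f⁻¹ * e * f⁻¹) * (e * f⁻¹)) * (f * e⁻¹) := by group
        _ = e⁻¹ * f * e⁻¹ := by rw [this]; group
    calc f⁻¹ * e * f = f⁻¹ * e * f⁻¹ * (f * f) := by group
      _ = e⁻¹ * f * e⁻¹ * f⁻¹ := by rw [h, hff]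
      _ = e⁻¹ * (f * e⁻¹ * f⁻¹) := by group
  have h2 : f⁻¹ * e * f = (f * e⁻¹ * f⁻¹) * e⁻¹ := by
    have h : f * e * f = e⁻¹ * f⁻¹ * e⁻¹ := by
      calc f * e * f = e⁻¹ * ((e * f) * (e * f) * (e * f)) * (f⁻¹ * e⁻¹) := by group
        _ = e⁻¹ * f⁻¹ * e⁻¹ := by rw [hef]; group
    calc f⁻¹ * e * f = (f * f) * e * f := by rw [hff]
      _ = f * (f * e * f) := by group
      _ = (f * e⁻¹ * f⁻¹) * e⁻¹ := by rw [h]; group
  have h3 : Commute e⁻¹ (f * e⁻¹ * f⁻¹) := h1.symm.trans h2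
  have h4 : (f * e⁻¹ * f⁻¹) = (f * e * f⁻¹)⁻¹ := by group
  rw [h4] at h3
  exact (Commute.inv_inv_iff).1 h3

theorem comm_commute_left (hf : f * f * f = 1) (hef : (e * f) * (e * f) * (e * f) = 1)
    (hef' : (e * f⁻¹) * (e * f⁻¹) * (e * f⁻¹) = 1) : Commute (f * e * f⁻¹ * e⁻¹) e := by
  have h := commute_of_cubes hf hef hef'
  exact (h.symm.mul_left (Commute.refl e).inv_left)

theorem comm_cube (he : e * e * e = 1) (hf : f * f * f = 1)
    (hef : (e * f) * (e * f) * (e * f) = 1)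
    (hef' : (e * f⁻¹) * (e * f⁻¹) * (e * f⁻¹) = 1) :
    (f * e * f⁻¹ * e⁻¹) * (f * e * f⁻¹ * e⁻¹) * (f * e * f⁻¹ * e⁻¹) = 1 := by
  have h := commute_of_cubes hf hef hef'
  have h' : Commute (f * e * f⁻¹) e⁻¹ := h.symm.inv_right
  have h3 : (f * e * f⁻¹) * (f * e * f⁻¹) * (f * e * f⁻¹) = 1 := by
    calc (f * e * f⁻¹) * (f * e * f⁻¹) * (f * e * f⁻¹) = f * (e * e * e) * f⁻¹ := by group
      _ = 1 := by rw [he]; group
  have h4 : e⁻¹ * e⁻¹ * e⁻¹ = 1 := by
    have : e⁻¹ * e⁻¹ * e⁻¹ = (e * e * e)⁻¹ := by group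
    rw [this, he, inv_one]
  have key : ∀ u w : G, Commute u w → (u * w) * (u * w) * (u * w) = (u * u * u) * (w * w * w) := by
    intro u w huw
    have h5 := huw.mul_pow 3
    rw [pow_three', pow_three', pow_three'] at h5
    exact h5
  rw [key _ _ h', h3, h4, one_mul]

theorem comm_commute_right (he : e * e * e = 1) (hf : f * f * f = 1)
    (hef : (e * f) * (e * f) * (e * f) = 1)
    (hef' : (e * f⁻¹) * (e * f⁻¹) * (e * f⁻¹) = 1) : Commute (f * e * f⁻¹ * e⁻¹) f := by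
  have h1 : (f * e) * (f * e) * (f * e) = 1 := by
    calc (f * e) * (f * e) * (f * e) = e⁻¹ * ((e * f) * (e * f) * (e * f)) * e := by group
      _ = 1 := by rw [hef]; group
  have h2 : (f * e⁻¹) * (f * e⁻¹) * (f * e⁻¹) = 1 := by
    calc (f * e⁻¹) * (f * e⁻¹) * (f * e⁻¹) = ((e * f⁻¹) * (e * f⁻¹) * (e * f⁻¹))⁻¹ := by group
      _ = 1 := by rw [hef', inv_one]
  have h := comm_commute_left (e := f) (f := e) he h1 h2
  have h3 : f * e * f⁻¹ * e⁻¹ = (e * f * e⁻¹ * f⁻¹)⁻¹ := by group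
  rw [h3]
  exact h.inv_left

end Words

variable {G : Type*} [Group G] {S : Set G}

/-- affine triples -/
structure Aff (S : Set G) (x a b : G) : Prop where
  hx : x ∈ S
  ha : a ∈ S
  hb : b ∈ S
  xa : ¬ Commute x a
  xb : ¬ Commute x b
  ab : ¬ Commute a b
  xab : ¬ Commute x (cj a b)

/-- affine planes -/
structure Pl (S : Set G) (p : ZMod 3 × ZMod 3 → G) : Prop where
  mem : ∀ u, p u ∈ S
  ncomm : ∀ u v, u ≠ v → ¬ Commute (p u) (p v)
  third : ∀ u v, cj (p u) (p v) = p (-u - v)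

namespace Aff

variable {x a b : G}

theorem xab' (hS : TSet S) (h : Aff S x a b) : ¬ Commute (cj x a) b := by
  intro h1
  apply h.xab
  have h2 := (commute_cj (g := a)).2 h1
  rw [hS.braid x h.hx a h.ha h.xa, hS.cj_cj_self h.ha] at h2
  exact h2

theorem inv_eq (hS : TSet S) (h : Aff S x a b) :
    x⁻¹ = x ∧ a⁻¹ = a ∧ b⁻¹ = b := ⟨hS.inv_eq h.hx, hS.inv_eq h.ha, hS.inv_eq h.hb⟩

theorem cubes (hS : TSet S) (h : Aff S x a b) :
    (x * a) * (x * a) * (x * a) = 1 ∧ (x * b) * (x * b) * (x * b) = 1 ∧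
      ((x * a) * (x * b)) * ((x * a) * (x * b)) * ((x * a) * (x * b)) = 1 ∧
      ((x * a) * (x * b)⁻¹) * ((x * a) * (x * b)⁻¹) * ((x * a) * (x * b)⁻¹) = 1 := by
  refine ⟨hS.cube h.hx h.ha h.xa, hS.cube h.hx h.hb h.xb, ?_, ?_⟩
  · have e : (x * a) * (x * b) = cj x a * b := by rw [hS.cj_eq h.hx]; group
    rw [e]
    exact hS.cube (hS.closed x h.hx a h.ha) h.hb (h.xab' hS)
  · have e : (x * a) * (x * b)⁻¹ = x * (a * b) * x⁻¹ := by
      rw [mul_inv_rev, hS.inv_eq h.hb]; group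
    rw [e]
    calc _ = x * ((a * b) * (a * b) * (a * b)) * x⁻¹ := by group
      _ = 1 := by rw [hS.cube h.ha h.hb h.ab]; group

/-- the central element of the plane -/
def cc (x a b : G) : G := (x * b) * (x * a) * (x * b)⁻¹ * (x * a)⁻¹

theorem cc_commute (hS : TSet S) (h : Aff S x a b) :
    Commute (cc x a b) (x * a) ∧ Commute (cc x a b) (x * b) ∧
      cc x a b * cc x a b * cc x a b = 1 := by
  obtain ⟨h1, h2, h3, h4⟩ := h.cubes hS
  exact ⟨comm_commute_left h2 h3 h4, comm_commute_right h1 h2 h3 h4, comm_cube h1 h2 h3 h4⟩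

theorem tri_eq (hS : TSet S) (h : Aff S x a b) : tri x a b = cc x a b * x := by
  obtain ⟨ix, ia, ib⟩ := h.inv_eq hS
  rw [tri, hS.cj_eq h.hx, hS.cj_eq h.ha, hS.cj_eq h.hx, cc, mul_inv_rev, mul_inv_rev, ix, ia, ib]
  have hxx := hS.sq x h.hx
  have haa := hS.sq a h.ha
  have e1 : x * b * x * (a * b * a) * (x * a * x) = x * b * x * a * b * (a * x * a) * x := by group
  have e2 : a * x * a = x * a * x := by
    have := hS.braid a h.ha x h.hx (fun h1 => h.xa h1.symm)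
    rw [hS.cj_eq h.ha, hS.cj_eq h.hx] at this
    exact this
  rw [e1, e2]
  group

theorem cc_commute_x (hS : TSet S) (h : Aff S x a b) : Commute (cc x a b) x := by
  obtain ⟨h1, h2, h3, h4⟩ := h.cubes hS
  obtain ⟨ix, ia, ib⟩ := h.inv_eq hS
  have hxx := hS.sq x h.hx
  -- `x` inverts `e = x a` and `f = x b`
  set e := x * a with he
  set f := x * b with hf
  have hc := comm_commute_left h2 h3 h4
  have hc' := comm_commute_right h1 h2 h3 h4
  have xe : x * e * x⁻¹ = e⁻¹ := by rw [he, mul_inv_rev, ix, ia, ← mul_assoc, hxx, one_mul]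
  have xf : x * f * x⁻¹ = f⁻¹ := by rw [hf, mul_inv_rev, ix, ib, ← mul_assoc, hxx, one_mul]
  have hcc : cc x a b = f * e * f⁻¹ * e⁻¹ := rfl
  have h5 : x * (f * e * f⁻¹ * e⁻¹) * x⁻¹ = f⁻¹ * e⁻¹ * f * e := by
    calc x * (f * e * f⁻¹ * e⁻¹) * x⁻¹ =
        (x * f * x⁻¹) * (x * e * x⁻¹) * (x * f * x⁻¹)⁻¹ * (x * e * x⁻¹)⁻¹ := by group
      _ = f⁻¹ * e⁻¹ * f * e := by rw [xe, xf, inv_inv, inv_inv]
  have h6 : f⁻¹ * e⁻¹ * f * e = f * e * f⁻¹ * e⁻¹ := by
    -- conjugate of `c` by `(e f)⁻¹`... uses that `c` commutes with `e` and `f`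
    have h7 : f * e = (f * e * f⁻¹ * e⁻¹) * (e * f) := by group
    have hc2 : Commute (f * e * f⁻¹ * e⁻¹) (e * f) := hc.mul_right hc'
    calc f⁻¹ * e⁻¹ * f * e = (e * f)⁻¹ * (f * e) := by group
      _ = (e * f)⁻¹ * ((f * e * f⁻¹ * e⁻¹) * (e * f)) := by rw [← h7]
      _ = (e * f)⁻¹ * ((e * f) * (f * e * f⁻¹ * e⁻¹)) := by rw [hc2.eq]
      _ = f * e * f⁻¹ * e⁻¹ := by rw [← mul_assoc, inv_mul_cancel, one_mul]
  rw [hcc]
  have h9 : x * (f * e * f⁻¹ * e⁻¹) * x⁻¹ = f * e * f⁻¹ * e⁻¹ := h5.trans h6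
  have h10 := mul_inv_eq_iff_eq_mul.1 h9
  exact h10.symm

theorem cc_commute_a (hS : TSet S) (h : Aff S x a b) : Commute (cc x a b) a := by
  have h1 := (h.cc_commute hS).1
  have h2 := h.cc_commute_x hS
  have h3 := h2.inv_right.mul_right h1
  rwa [inv_mul_cancel_left] at h3

theorem cc_commute_b (hS : TSet S) (h : Aff S x a b) : Commute (cc x a b) b := by
  have h1 := (h.cc_commute hS).2.1
  have h2 := h.cc_commute_x hS
  have h3 := h2.inv_right.mul_right h1
  rwa [inv_mul_cancel_left] at h3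

end Aff

/-! ### Parametrisation of the plane -/

section Param

/-- the points of the plane -/
def pl (x e f : G) (u : ZMod 3 × ZMod 3) : G := cj (e ^ u.1.val * f ^ u.2.val) x

variable {x e f : G}

theorem pow_val_succ (he : e * e * e = 1) (i : ZMod 3) : e ^ (i + 1).val = e * e ^ i.val := by
  have h3 : e ^ 3 = 1 := by rw [pow_three']; exact he
  fin_cases i
  · show e ^ 1 = e * e ^ 0
    rw [pow_one, pow_zero, mul_one]
  · show e ^ 2 = e * e ^ 1
    rw [pow_one, pow_two]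
  · show e ^ 0 = e * e ^ 2
    rw [pow_zero, ← pow_succ', h3]

theorem cj_e_pl (he : e * e * e = 1) (u : ZMod 3 × ZMod 3) :
    cj e (pl x e f u) = pl x e f (u.1 + 1, u.2) := by
  rw [pl, pl, ← cj_mul, ← mul_assoc, pow_val_succ he]

theorem conj_pow_c {c : G} (hc : f * e * f⁻¹ * e⁻¹ = c) (hce : Commute c e) (n : ℕ) :
    f * e ^ n = c ^ n * e ^ n * f := by
  have h1 : f * e * f⁻¹ = c * e := by rw [← hc]; group
  have h2 : f * e ^ n * f⁻¹ = (f * e * f⁻¹) ^ n := by rw [conj_pow]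
  rw [h1, hce.mul_pow] at h2
  rw [← h2]; group

theorem cj_f_pl (hf : f * f * f = 1) {c : G} (hc : f * e * f⁻¹ * e⁻¹ = c)
    (hce : Commute c e) (hcf : Commute c f) (hcx : Commute c x) (u : ZMod 3 × ZMod 3) :
    cj f (pl x e f u) = pl x e f (u.1, u.2 + 1) := by
  have h1 : f * (e ^ u.1.val * f ^ u.2.val) =
      (e ^ u.1.val * f ^ (u.2 + 1).val) * c ^ u.1.val := by
    rw [← mul_assoc, conj_pow_c hc hce, pow_val_succ hf]
    have h2 : Commute (c ^ u.1.val) (e ^ u.1.val * (f * f ^ u.2.val)) := by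
      apply Commute.pow_left
      exact (hce.pow_right _).mul_right (hcf.mul_right (hcf.pow_right _))
    rw [← h2.eq]
    group
  rw [pl, pl, ← cj_mul, h1, cj_mul _ (c ^ u.1.val), cj_of_commute (hcx.pow_left _)]

theorem cj_epow_pl (he : e * e * e = 1) (m : ℕ) (u : ZMod 3 × ZMod 3) :
    cj (e ^ m) (pl x e f u) = pl x e f (u.1 + (m : ZMod 3), u.2) := by
  induction m with
  | zero => simp
  | succ n ih =>
    rw [pow_succ', cj_mul, ih, cj_e_pl he]
    congr 1
    push_cast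
    ring_nf

theorem cj_fpow_pl (hf : f * f * f = 1) {c : G} (hc : f * e * f⁻¹ * e⁻¹ = c)
    (hce : Commute c e) (hcf : Commute c f) (hcx : Commute c x) (m : ℕ) (u : ZMod 3 × ZMod 3) :
    cj (f ^ m) (pl x e f u) = pl x e f (u.1, u.2 + (m : ZMod 3)) := by
  induction m with
  | zero => simp
  | succ n ih =>
    rw [pow_succ', cj_mul, ih, cj_f_pl hf hc hce hcf hcx]
    congr 1
    push_cast
    ring_nf

/-- the translations -/
theorem cj_t_pl (he : e * e * e = 1) (hf : f * f * f = 1) {c : G} (hc : f * e * f⁻¹ * e⁻¹ = c)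
    (hce : Commute c e) (hcf : Commute c f) (hcx : Commute c x) (u v : ZMod 3 × ZMod 3) :
    cj (e ^ u.1.val * f ^ u.2.val) (pl x e f v) = pl x e f (u + v) := by
  rw [cj_mul, cj_fpow_pl hf hc hce hcf hcx, cj_epow_pl he]
  congr 1
  rw [ZMod.natCast_zmod_val, ZMod.natCast_zmod_val]
  ext <;> simp [add_comm]

theorem cj_x_pl (he : e * e * e = 1) (hf : f * f * f = 1) {c : G} (hc : f * e * f⁻¹ * e⁻¹ = c)
    (hce : Commute c e) (hcf : Commute c f) (hcx : Commute c x)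
    (hxe : x * e * x⁻¹ = e⁻¹) (hxf : x * f * x⁻¹ = f⁻¹) (u : ZMod 3 × ZMod 3) :
    cj x (pl x e f u) = pl x e f (-u) := by
  have h0 : pl x e f 0 = x := by simp [pl]
  have h1 : x * (e ^ u.1.val * f ^ u.2.val) * x⁻¹ = (e ^ u.1.val)⁻¹ * (f ^ u.2.val)⁻¹ := by
    calc x * (e ^ u.1.val * f ^ u.2.val) * x⁻¹ =
        (x * e ^ u.1.val * x⁻¹) * (x * f ^ u.2.val * x⁻¹) := by group
      _ = (x * e * x⁻¹) ^ u.1.val * (x * f * x⁻¹) ^ u.2.val := by rw [conj_pow, conj_pow]
      _ = (e ^ u.1.val)⁻¹ * (f ^ u.2.val)⁻¹ := by rw [hxe, hxf, inv_pow, inv_pow]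
  have h2 : cj x (pl x e f u) = cj ((e ^ u.1.val)⁻¹ * (f ^ u.2.val)⁻¹) x := by
    rw [pl, ← cj_mul, ← h1]
    simp only [cj_def]; group
  rw [h2, cj_mul]
  have h3 : cj (f ^ u.2.val)⁻¹ x = pl x e f (0, -u.2) := by
    rw [← cj_inj (g := f ^ u.2.val), cj_cj_inv, cj_fpow_pl hf hc hce hcf hcx,
      ZMod.natCast_zmod_val]
    simp only [neg_add_cancel]
    exact h0.symm
  rw [h3]
  rw [← cj_inj (g := e ^ u.1.val), cj_cj_inv, cj_epow_pl he, ZMod.natCast_zmod_val]
  congr 1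
  ext <;> simp

/-- the plane is closed -/
theorem pl_third (he : e * e * e = 1) (hf : f * f * f = 1) {c : G} (hc : f * e * f⁻¹ * e⁻¹ = c)
    (hce : Commute c e) (hcf : Commute c f) (hcx : Commute c x)
    (hxe : x * e * x⁻¹ = e⁻¹) (hxf : x * f * x⁻¹ = f⁻¹) (u v : ZMod 3 × ZMod 3) :
    cj (pl x e f u) (pl x e f v) = pl x e f (-u - v) := by
  have ht := cj_t_pl he hf hc hce hcf hcx
  have hti : ∀ u v : ZMod 3 × ZMod 3,
      cj (e ^ u.1.val * f ^ u.2.val)⁻¹ (pl x e f v) = pl x e f (v - u) := by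
    intro u v
    rw [← cj_inj (g := e ^ u.1.val * f ^ u.2.val), cj_cj_inv, ht]
    congr 1
    abel
  have h1 : pl x e f u = cj (e ^ u.1.val * f ^ u.2.val) x := rfl
  rw [h1, cj_cj, hti, cj_x_pl he hf hc hce hcf hcx hxe hxf, ht]
  congr 1
  have h3 : ∀ w : ZMod 3 × ZMod 3, w + w = -w := by decide
  have : u + -(v - u) = (u + u) - v := by abel
  rw [this, h3]

end Param

section Exists

variable {x a b : G}

theorem exists_pl (hS : TSet S) (h : Aff S x a b) :
    ∃ p : ZMod 3 × ZMod 3 → G, Pl S p ∧ p 0 = x ∧ p (1, 0) = a ∧ p (0, 1) = b ∧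
      (∀ u, Commute (Aff.cc x a b) (p u)) := by
  obtain ⟨he, hf, -, -⟩ := h.cubes hS
  obtain ⟨hce, hcf, -⟩ := h.cc_commute hS
  have hcx := h.cc_commute_x hS
  obtain ⟨ix, ia, ib⟩ := h.inv_eq hS
  have hxx := hS.sq x h.hx
  have hxe : x * (x * a) * x⁻¹ = (x * a)⁻¹ := by
    rw [mul_inv_rev, ix, ia, ← mul_assoc, hxx, one_mul]
  have hxf : x * (x * b) * x⁻¹ = (x * b)⁻¹ := by
    rw [mul_inv_rev, ix, ib, ← mul_assoc, hxx, one_mul]
  have T := pl_third he hf (c := Aff.cc x a b) rfl hce hcf hcx hxe hxf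
  have p0 : pl x (x * a) (x * b) 0 = x := by simp [pl]
  have p10 : pl x (x * a) (x * b) (1, 0) = a := by
    show cj ((x * a) ^ 1 * (x * b) ^ 0) x = a
    rw [pow_one, pow_zero, mul_one, cj_mul, ← hS.braid x h.hx a h.ha h.xa, hS.cj_cj_self h.hx]
  have p01 : pl x (x * a) (x * b) (0, 1) = b := by
    show cj ((x * a) ^ 0 * (x * b) ^ 1) x = b
    rw [pow_one, pow_zero, one_mul, cj_mul, ← hS.braid x h.hx b h.hb h.xb, hS.cj_cj_self h.hx]
  have ht := cj_t_pl he hf (c := Aff.cc x a b) rfl hce hcf hcx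
  have hcc : ∀ u, Commute (Aff.cc x a b) (pl x (x * a) (x * b) u) := by
    intro u
    have h1 : Commute (Aff.cc x a b) ((x * a) ^ u.1.val * (x * b) ^ u.2.val) :=
      (hce.pow_right _).mul_right (hcf.pow_right _)
    exact (h1.mul_right hcx).mul_right h1.inv_right
  obtain ⟨p, hp⟩ : ∃ p, p = pl x (x * a) (x * b) := ⟨_, rfl⟩
  rw [← hp] at T p0 p10 p01 ht hcc
  have T0 : ∀ v, cj x (p v) = p (-v) := by
    intro v
    have := T 0 v
    rw [p0, neg_zero, zero_sub] at this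
    exact this
  have p22 : p (2, 2) = cj a b := by
    have := T (1, 0) (0, 1)
    rw [p10, p01] at this
    exact this.symm
  have p20 : p (2, 0) = cj x a := by
    have := T0 (1, 0)
    rw [p10] at this
    exact this.symm
  have p12 : p (1, 2) = cj (cj x a) b := by
    have := T (2, 0) (0, 1)
    rw [p20, p01] at this
    exact this.symm
  have p02 : p (0, 2) = cj x b := by
    have := T0 (0, 1)
    rw [p01] at this
    exact this.symm
  have p11 : p (1, 1) = cj x (cj a b) := by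
    have := T0 (2, 2)
    rw [p22] at this
    exact this.symm
  have p21 : p (2, 1) = cj x (cj (cj x a) b) := by
    have := T0 (1, 2)
    rw [p12] at this
    exact this.symm
  have hx2 : ∀ z, ¬ Commute x z → ¬ Commute x (cj x z) := by
    intro z hz h1
    apply hz
    have h2 := (commute_cj (g := x) (x := x) (y := cj x z)).2 h1
    rw [cj_self, hS.cj_cj_self h.hx] at h2
    exact h2
  have hxS := h.hx
  have haS := h.ha
  have hbS := h.hb
  have hc12 : ¬ Commute x (cj (cj x a) b) := by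
    intro h1
    have h2 := (commute_cj (g := cj x a)).2 h1
    rw [hS.cj_third hxS haS h.xa, hS.cj_cj_self (hS.closed x hxS a haS)] at h2
    exact h.ab h2
  have hN : ∀ w : ZMod 3 × ZMod 3, w ≠ 0 → ¬ Commute x (p w) := by
    rintro ⟨i, j⟩ hw
    fin_cases i <;> fin_cases j
    · exact absurd rfl hw
    · change ¬ Commute x (p (0, 1)); rw [p01]; exact h.xb
    · change ¬ Commute x (p (0, 2)); rw [p02]; exact hx2 _ h.xb
    · change ¬ Commute x (p (1, 0)); rw [p10]; exact h.xa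
    · change ¬ Commute x (p (1, 1)); rw [p11]; exact hx2 _ h.xab
    · change ¬ Commute x (p (1, 2)); rw [p12]; exact hc12
    · change ¬ Commute x (p (2, 0)); rw [p20]; exact hx2 _ h.xa
    · change ¬ Commute x (p (2, 1)); rw [p21]; exact hx2 _ hc12
    · change ¬ Commute x (p (2, 2)); rw [p22]; exact h.xab
  have hM : ∀ w : ZMod 3 × ZMod 3, p w ∈ S := by
    rintro ⟨i, j⟩
    have m1 := hS.closed a haS b hbS
    have m2 := hS.closed x hxS a haS
    have m3 := hS.closed _ m2 b hbS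
    fin_cases i <;> fin_cases j
    · change p 0 ∈ S; rw [p0]; exact hxS
    · change p (0, 1) ∈ S; rw [p01]; exact hbS
    · change p (0, 2) ∈ S; rw [p02]; exact hS.closed x hxS b hbS
    · change p (1, 0) ∈ S; rw [p10]; exact haS
    · change p (1, 1) ∈ S; rw [p11]; exact hS.closed x hxS _ m1
    · change p (1, 2) ∈ S; rw [p12]; exact m3
    · change p (2, 0) ∈ S; rw [p20]; exact m2
    · change p (2, 1) ∈ S; rw [p21]; exact hS.closed x hxS _ m3
    · change p (2, 2) ∈ S; rw [p22]; exact m1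
  refine ⟨p, ⟨hM, ?_, T⟩, p0, p10, p01, hcc⟩
  intro u v huv h1
  have h2 := (commute_cj (g := ((x * a) ^ u.1.val * (x * b) ^ u.2.val)⁻¹)).2 h1
  have h3 : ∀ w, cj ((x * a) ^ u.1.val * (x * b) ^ u.2.val)⁻¹ (p w) = p (w - u) := by
    intro w
    rw [← cj_inj (g := (x * a) ^ u.1.val * (x * b) ^ u.2.val), cj_cj_inv, ht]
    congr 1
    abel
  rw [h3, h3, sub_self, p0] at h2
  exact hN (v - u) (fun h4 => huv (sub_eq_zero.1 h4).symm) h2

end Exists

/-- closed subsets of the affine plane of order 3 -/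
theorem card_closed (F : Finset (ZMod 3 × ZMod 3)) (h : ∀ u ∈ F, ∀ v ∈ F, -u - v ∈ F) :
    F.card = 0 ∨ F.card = 1 ∨ F.card = 3 ∨ F.card = 9 := by
  revert F
  decide +kernel

theorem Pl.injective {p : ZMod 3 × ZMod 3 → G} (hp : Pl S p) :
    Function.Injective p := by
  intro u v huv
  by_contra hne
  exact hp.ncomm u v hne (by rw [huv])

open Classical in
theorem Pl.card_cases {p : ZMod 3 × ZMod 3 → G} (hp : Pl S p) (d : G) :
    (Finset.univ.filter (fun u => Commute d (p u))).card = 0 ∨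
    (Finset.univ.filter (fun u => Commute d (p u))).card = 1 ∨
    (Finset.univ.filter (fun u => Commute d (p u))).card = 3 ∨
    (Finset.univ.filter (fun u => Commute d (p u))).card = 9 := by
  apply card_closed
  intro u hu v hv
  rw [Finset.mem_filter] at hu hv ⊢
  refine ⟨Finset.mem_univ _, ?_⟩
  rw [← hp.third]
  exact commute_cj_of hu.2 hv.2

theorem Pl.commute_all {p : ZMod 3 × ZMod 3 → G} (hp : Pl S p) {d : G}
    (h0 : Commute d (p 0)) (h1 : Commute d (p (1, 0))) (h2 : Commute d (p (0, 1))) (u) :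
    Commute d (p u) := by
  have T : ∀ u v, Commute d (p u) → Commute d (p v) → Commute d (p (-u - v)) := by
    intro u v hu hv
    rw [← hp.third]
    exact commute_cj_of hu hv
  have h20 : Commute d (p (2, 0)) := T 0 (1, 0) h0 h1
  have h02 : Commute d (p (0, 2)) := T 0 (0, 1) h0 h2
  have h22 : Commute d (p (2, 2)) := T (1, 0) (0, 1) h1 h2
  have h11 : Commute d (p (1, 1)) := T 0 (2, 2) h0 h22
  have h12 : Commute d (p (1, 2)) := T (2, 0) (0, 1) h20 h2
  have h21 : Commute d (p (2, 1)) := T 0 (1, 2) h0 h12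
  obtain ⟨i, j⟩ := u
  fin_cases i <;> fin_cases j
  · exact h0
  · exact h2
  · exact h02
  · exact h1
  · exact h11
  · exact h12
  · exact h20
  · exact h21
  · exact h22

end Cfsg.Agent.TSp.Plane
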