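import Mathlib
import Cfsg.Agent.Fischer160.Piece
import Cfsg.Agent.TSp.Basic

set_option autoImplicit false

/-!
# `L_x = ⟨C_D(x)⟩` is transitive on the transpositions not commuting with `x`;
# the centralizer of `{x} ∪ D_x` is `⟨x⟩`
-/

namespace Cfsg.Agent.TSp.LTrans

open Cfsg Cfsg.Agent.SporadicStructure.FischerSpace Cfsg.Agent.ThreeTransPolar.Basic
open Cfsg.Agent.Fischer160.Inherit hiding Dx
open Cfsg.Agent.Fischer480.Defs hiding FGroup
open Cfsg.Agent.TSp.Basic hiding FGroup

universe u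

variable {G : Type u} [Group G] {D : Set G}

/-- the group generated by the members of `D` commuting with `x` -/
def LL (D : Set G) (x : G) : Subgroup G := Subgroup.closure {d | d ∈ D ∧ Commute d x}

theorem mem_LL {x d : G} (hd : d ∈ D) (h : Commute d x) : d ∈ LL D x :=
  Subgroup.subset_closure ⟨hd, h⟩

theorem commute_of_mem_LL {x g : G} (hg : g ∈ LL D x) : Commute g x := by
  have hle : LL D x ≤ Subgroup.centralizer {x} := by
    rw [LL, Subgroup.closure_le]
    rintro d ⟨-, hd⟩
    rw [SetLike.mem_coe, Subgroup.mem_centralizer_singleton_iff]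
    exact hd.eq
  exact Subgroup.mem_centralizer_singleton_iff.1 (hle hg)

theorem HH_le_LL (x : G) : HH D x ≤ LL D x := by
  rw [HH, Subgroup.closure_le]
  rintro d ⟨hd, -, hc⟩
  exact mem_LL hd hc.symm

theorem ncard_com_conj (h : FData D) {x a : G} (g : G) :
    (Com D (cj g x) (cj g a)).ncard = (Com D x a).ncard := by
  have := ncard_conj_eq h (x := x) (y := a) (g := g) (fun d x y => Commute x d ∧ Commute y d)
    (fun g d x y hh => ⟨commute_cj.2 hh.1, commute_cj.2 hh.2⟩)
  exact this.symm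

/-- all sets `D_x ∩ D_a`, `x` not commuting with `a`, have the same size -/
theorem ncard_com_eq (R : Rk D) {x a y b : G} (hx : x ∈ D) (ha : a ∈ D) (hxa : ¬ Commute x a)
    (hy : y ∈ D) (hb : b ∈ D) (hyb : ¬ Commute y b) :
    (Com D x a).ncard = (Com D y b).ncard := by
  obtain ⟨g, hg⟩ := R.fd.single x hx y hy
  have hg' : cj g x = y := hg
  have h1 : ¬ Commute y (cj g a) := by rw [← hg', commute_cj]; exact hxa
  obtain ⟨k, hk1, hk2⟩ := R.colTrans y hy (cj g a) (cj_mem R.fd ha) b hb h1 hyb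
  have h2 := ncard_com_conj R.fd (x := x) (a := a) g
  have h3 := ncard_com_conj R.fd (x := y) (a := cj g a) k
  rw [hk1, hk2] at h3
  rw [hg'] at h2
  rw [← h2, ← h3]

/-- commuting members of `A_x` are in the same orbit of `L_x` -/
theorem orbit_of_commute (h : FData D) {x a z : G} (hx : x ∈ D) (ha : a ∈ D) (hz : z ∈ D)
    (hxa : ¬ Commute x a) (hxz : ¬ Commute x z) (haz : Commute a z) :
    ∃ g ∈ LL D x, cj g a = z := by
  set y := cj a (cj z x) with hy
  have hyD : y ∈ D := h.conj a _ (h.conj z x hx)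
  have hxy : Commute x y := s4_commute h ha hz hx haz hxa hxz
  refine ⟨y * x, mul_mem (mem_LL hyD hxy.symm) (mem_LL hx (Commute.refl x)), ?_⟩
  have e1 : cj a (cj x a) = x := by rw [third_comm h hx ha hxa, cj_cj_self h ha]
  have e2 : cj x (cj z x) = z := by rw [← third_comm h hx hz hxz, cj_cj_self h hx]
  have hinv : (a * z)⁻¹ = z * a := by rw [mul_inv_rev, h.inv_eq ha, h.inv_eq hz]
  rw [cj_mul, hy, ← cj_mul a z x, cj_cj, hinv, cj_mul z a, e1, e2, cj_mul, cj_self,
    cj_of_commute haz]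

/-- **`L_x` is transitive on the transpositions not commuting with `x`.** -/
theorem lx_trans [Finite G] (F : FGroup D) {x a b : G} (hx : x ∈ D) (ha : a ∈ D) (hb : b ∈ D)
    (hxa : ¬ Commute x a) (hxb : ¬ Commute x b) : ∃ g ∈ LL D x, cj g a = b := by
  have R := rk_of_FGroup F
  have h := R.fd
  by_contra hno
  push Not at hno
  -- elements commuting with two members of different orbits commute with `x`
  have key : ∀ a' ∈ D, ∀ b' ∈ D, ¬ Commute x a' → ¬ Commute x b' →
      (∀ g ∈ LL D x, cj g a' ≠ b') → Com D a' b' ⊆ Com D x a' ∧ Com D a' b' ⊆ Com D x b' := by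
    intro a' ha' b' hb' hxa' hxb' hno'
    have hcx : ∀ z ∈ Com D a' b', Commute x z := by
      rintro z ⟨hz, hza, hzb⟩
      by_contra hxz
      obtain ⟨g, hg, hg'⟩ := orbit_of_commute h hx ha' hz hxa' hxz hza
      obtain ⟨k, hk, hk'⟩ := orbit_of_commute h hx hz hb' hxz hxb' hzb.symm
      exact hno' (k * g) (mul_mem hk hg) (by rw [cj_mul, hg', hk'])
    exact ⟨fun z hz => ⟨hz.1, hcx z hz, hz.2.1⟩, fun z hz => ⟨hz.1, hcx z hz, hz.2.2⟩⟩
  have keq : ∀ a' ∈ D, ∀ b' ∈ D, ¬ Commute x a' → ¬ Commute x b' →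
      (∀ g ∈ LL D x, cj g a' ≠ b') → Com D x a' = Com D x b' := by
    intro a' ha' b' hb' hxa' hxb' hno'
    obtain ⟨h1, h2⟩ := key a' ha' b' hb' hxa' hxb' hno'
    have hab : ¬ Commute a' b' := by
      intro hc
      obtain ⟨g, hg, hg'⟩ := orbit_of_commute h hx ha' hb' hxa' hxb' hc
      exact hno' g hg hg'
    have e1 := Set.eq_of_subset_of_ncard_le h1
      (ncard_com_eq R hx ha' hxa' ha' hb' hab).le (Set.toFinite _)
    have e2 := Set.eq_of_subset_of_ncard_le h2
      (ncard_com_eq R hx hb' hxb' ha' hb' hab).le (Set.toFinite _)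
    rw [← e1, ← e2]
  -- `Com D x a` is invariant
  have hinv : ∀ g ∈ LL D x, Com D x (cj g a) = Com D x a := by
    intro g hg
    have hgx : cj g x = x := cj_of_commute (commute_of_mem_LL hg)
    have h1 : ¬ Commute x (cj g a) := by
      have : ¬ Commute (cj g x) (cj g a) := by rw [commute_cj]; exact hxa
      rwa [hgx] at this
    rw [keq (cj g a) (cj_mem h ha) b hb h1 hxb (by
      intro k hk hkb
      exact hno (k * g) (mul_mem hk hg) (by rw [cj_mul, hkb])), keq a ha b hb hxa hxb hno]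
  -- it is not empty
  have hne : (Com D x a).Nonempty := by
    obtain ⟨x', hx', w, hw, d, hd, h1, h2, h3⟩ := R.exNonPerp
    have h4 := ncard_com_eq R hx ha hxa hx' hw h1
    rw [← Set.ncard_pos (Set.toFinite _), h4, Set.ncard_pos (Set.toFinite _)]
    exact ⟨d, hd, h2.symm, h3.symm⟩
  obtain ⟨y, hy, hxy, hay⟩ := hne
  have hyx : y ≠ x := by
    rintro rfl
    exact hxa hay.symm
  -- so it is all of `D_x`
  apply hxa
  have hall : ∀ w ∈ D, w ≠ x → Commute w x → Commute w a := by
    intro w hw hwx hwc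
    obtain ⟨g, hg, hg'⟩ := SporadicStructure.FischerRank3.perp_single_class F.fd F.sol F.perf hx
      w ⟨hw, hwx, hwc.symm⟩ y ⟨hy, hyx, hxy⟩
    have hg2 : cj g w = y := hg'
    have hgL := HH_le_LL x hg
    have h5 : y ∈ Com D x (cj g a) := by
      rw [hinv g hgL]; exact ⟨hy, hxy, hay⟩
    have h6 := h5.2.2
    rw [← hg2, commute_cj] at h6
    exact h6.symm
  have h7 := SporadicStructure.FischerRank3.eq_of_perp_imp F.fd F.sol F.perf hx ha (by
    intro w hw hwx hwc
    refine ⟨?_, hall w hw hwx hwc⟩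
    rintro rfl
    exact hxa hwc.symm)
  rw [h7]

/-- the property `θ'` -/
def Theta (E : Set G) : Prop := ∀ x ∈ E, ∀ a ∈ E, ∀ b ∈ E, ¬ Commute x a → ¬ Commute x b →
  (∀ d ∈ E, Commute d x → (Commute d a ↔ Commute d b)) → b = a ∨ b = cj x a

/-- **the centralizer of `{x} ∪ D_x` is `⟨x⟩`** -/
theorem kernel [Finite G] (F : FGroup D) (ht : Theta D) {x c : G} (hx : x ∈ D)
    (hcx : Commute c x) (hc : ∀ y ∈ Loc D x, Commute c y) : c = 1 ∨ c = x := by
  have R := rk_of_FGroup F
  have h := R.fd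
  obtain ⟨a, ha, hxa⟩ := R.exCol x hx
  have hLL : ∀ c : G, Commute c x → (∀ y ∈ Loc D x, Commute c y) → ∀ g ∈ LL D x,
      Commute c g := by
    intro c hcx hc g hg
    have hle : LL D x ≤ Subgroup.centralizer {c} := by
      rw [LL, Subgroup.closure_le]
      rintro d ⟨hd, hdx⟩
      rw [SetLike.mem_coe, Subgroup.mem_centralizer_singleton_iff]
      by_cases hd' : d = x
      · rw [hd']; exact hcx.symm.eq
      · exact (hc d ⟨hd, hd', hdx.symm⟩).symm.eq
    exact (Subgroup.mem_centralizer_singleton_iff.1 (hle hg)).symm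
  have hone : ∀ c : G, Commute c x → (∀ y ∈ Loc D x, Commute c y) → Commute c a → c = 1 := by
    intro c hcx hc hca
    apply R.center
    intro d hd
    by_cases hdx : Commute x d
    · by_cases hd' : d = x
      · rw [hd']; exact hcx
      · exact hc d ⟨hd, hd', hdx⟩
    · obtain ⟨g, hg, rfl⟩ := lx_trans F hx ha hd hxa hdx
      have h1 := hLL c hcx hc g hg
      exact (h1.mul_right hca).mul_right h1.inv_right
  have hcxx : cj c x = x := cj_of_commute hcx
  have h1 : ¬ Commute x (cj c a) := by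
    have : ¬ Commute (cj c x) (cj c a) := by rw [commute_cj]; exact hxa
    rwa [hcxx] at this
  rcases ht x hx a ha (cj c a) (cj_mem h ha) hxa h1 (by
    intro d hd hdx
    by_cases hd' : d = x
    · subst hd'
      exact ⟨fun h2 => absurd h2 hxa, fun h2 => absurd h2 h1⟩
    · have h2 : cj c d = d := cj_of_commute (hc d ⟨hd, hd', hdx.symm⟩)
      nth_rewrite 2 [← h2]
      rw [commute_cj]) with h2 | h2
  · left
    exact hone c hcx hc (cj_eq_self_iff.1 h2)
  · right
    have h3 : c⁻¹ * x = 1 := by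
      apply hone
      · exact hcx.inv_left.mul_left (Commute.refl x)
      · intro y hy
        exact (hc y hy).inv_left.mul_left hy.2.2
      · rw [← cj_eq_self_iff, cj_mul, ← h2, cj_inv_cj]
    rw [inv_mul_eq_one] at h3
    exact h3

end Cfsg.Agent.TSp.LTrans
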