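import Mathlib
import Cfsg.Agent.TSp.Plane

set_option autoImplicit false

/-!
# Counting points with respect to lines and affine planes
-/

namespace Cfsg.Agent.TSp.Count

open Cfsg Cfsg.Agent.SporadicStructure.FischerSpace Cfsg.Agent.ThreeTransPolar.Basic
open Cfsg.Agent.TSp.Basic Cfsg.Agent.TSp.SimpleConn Cfsg.Agent.TSp.Plane

/-! ### Abstract double counting -/

section Abstract

variable {α β : Type*} [Fintype α]

open Classical in
theorem sum_card (T : Finset β) (R : β → α → Prop) (c1 : ℕ)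
    (h1 : ∀ u : α, (T.filter (fun d => R d u)).card = c1) :
    ∑ d ∈ T, (Finset.univ.filter (fun u => R d u)).card = Fintype.card α * c1 := by
  have h2 : ∀ d ∈ T, (Finset.univ.filter (fun u => R d u)).card =
      ∑ u : α, if R d u then 1 else 0 := by
    intro d _
    rw [Finset.card_filter]
  rw [Finset.sum_congr rfl h2, Finset.sum_comm]
  have h3 : ∀ u ∈ (Finset.univ : Finset α), (∑ d ∈ T, if R d u then 1 else 0) = c1 := by
    intro u _
    rw [← h1 u, Finset.card_filter]
  rw [Finset.sum_congr rfl h3, Finset.sum_const, Finset.card_univ, smul_eq_mul]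

open Classical in
theorem sum_card_pairs [DecidableEq α] (T : Finset β) (R : β → α → Prop) (c2 : ℕ)
    (h2 : ∀ u v : α, u ≠ v → (T.filter (fun d => R d u ∧ R d v)).card = c2) :
    ∑ d ∈ T, (Finset.univ.filter (fun u => R d u)).card *
      ((Finset.univ.filter (fun u => R d u)).card - 1) =
      Fintype.card α * (Fintype.card α - 1) * c2 := by
  have h3 : ∀ d ∈ T, (Finset.univ.filter (fun u => R d u)).card *
      ((Finset.univ.filter (fun u => R d u)).card - 1) =
      ∑ q ∈ (Finset.univ : Finset α).offDiag, if (R d q.1 ∧ R d q.2) then 1 else 0 := by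
    intro d _
    rw [← Finset.card_filter]
    have h4 : ((Finset.univ : Finset α).offDiag.filter (fun q => R d q.1 ∧ R d q.2)) =
        (Finset.univ.filter (fun u => R d u)).offDiag := by
      ext q
      simp only [Finset.mem_filter, Finset.mem_offDiag, Finset.mem_univ, true_and]
      tauto
    rw [h4, Finset.offDiag_card, Nat.mul_sub_one]
  rw [Finset.sum_congr rfl h3, Finset.sum_comm]
  have h5 : ∀ q ∈ (Finset.univ : Finset α).offDiag,
      (∑ d ∈ T, if (R d q.1 ∧ R d q.2) then 1 else 0) = c2 := by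
    intro q hq
    rw [Finset.mem_offDiag] at hq
    rw [← h2 q.1 q.2 hq.2.2, Finset.card_filter]
  rw [Finset.sum_congr rfl h5, Finset.sum_const, Finset.offDiag_card, smul_eq_mul,
    Finset.card_univ, Nat.mul_sub_one]

end Abstract

/-! ### Planes -/

section Planes

variable {G : Type*} [Group G] {S : Set G}

/-- the members of `S` commuting with all points of the plane -/
def perp (S : Set G) (p : ZMod 3 × ZMod 3 → G) : Set G := {d | d ∈ S ∧ ∀ u, Commute d (p u)}

/-- the members of `S` commuting with no point of the plane -/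
def none' (S : Set G) (p : ZMod 3 × ZMod 3 → G) : Set G := {d | d ∈ S ∧ ∀ u, ¬ Commute d (p u)}

open Classical in
/-- counting the points off an affine plane -/
theorem plane_count [Finite G] {k μ : ℕ} {p : ZMod 3 × ZMod 3 → G} (hp : Pl S p)
    (hk : ∀ x ∈ S, (Dx S x).ncard = k)
    (hμ : ∀ x ∈ S, ∀ a ∈ S, ¬ Commute x a → (XX S x a).ncard = μ) :
    (none' S p).ncard + 16 * (perp S p).ncard + 9 * k + 9 = S.ncard + 24 * μ := by
  have hfin : S.Finite := Set.toFinite S
  set P : Finset G := Finset.univ.image p with hP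
  have hPcard : P.card = 9 := by
    rw [hP, Finset.card_image_of_injective _ hp.injective]; rfl
  set T : Finset G := hfin.toFinset \ P with hT
  have memT : ∀ d, d ∈ T ↔ d ∈ S ∧ ∀ u, d ≠ p u := by
    intro d
    rw [hT, Finset.mem_sdiff, Set.Finite.mem_toFinset, hP]
    simp only [Finset.mem_image, Finset.mem_univ, true_and, not_exists]
    constructor
    · rintro ⟨h1, h2⟩; exact ⟨h1, fun u hu => h2 u hu.symm⟩
    · rintro ⟨h1, h2⟩; exact ⟨h1, fun u hu => h2 u hu.symm⟩
  have hsub : P ⊆ hfin.toFinset := by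
    intro d hd
    rw [hP, Finset.mem_image] at hd
    obtain ⟨u, -, rfl⟩ := hd
    exact (Set.Finite.mem_toFinset _).2 (hp.mem u)
  have hTcard : T.card + 9 = S.ncard := by
    rw [hT, Set.ncard_eq_toFinset_card S hfin, ← hPcard, Finset.card_sdiff_add_card_eq_card hsub]
  have h1 : ∀ u : ZMod 3 × ZMod 3, (T.filter (fun d => Commute d (p u))).card = k := by
    intro u
    rw [← hk (p u) (hp.mem u), ← Set.ncard_coe_finset]
    refine congrArg Set.ncard (Set.ext fun d => ?_)
    rw [Finset.mem_coe, Finset.mem_filter, memT]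
    constructor
    · rintro ⟨⟨h2, h3⟩, h4⟩
      exact ⟨h2, h3 u, h4.symm⟩
    · rintro ⟨h2, h3, h4⟩
      refine ⟨⟨h2, ?_⟩, h4.symm⟩
      rintro v rfl
      by_cases huv : u = v
      · exact h3 (by rw [huv])
      · exact hp.ncomm u v huv h4
  have h2 : ∀ u v : ZMod 3 × ZMod 3, u ≠ v →
      (T.filter (fun d => Commute d (p u) ∧ Commute d (p v))).card = μ := by
    intro u v huv
    rw [← hμ (p u) (hp.mem u) (p v) (hp.mem v) (hp.ncomm u v huv), ← Set.ncard_coe_finset]
    refine congrArg Set.ncard (Set.ext fun d => ?_)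
    rw [Finset.mem_coe, Finset.mem_filter, memT]
    constructor
    · rintro ⟨⟨h3, h4⟩, h5, h6⟩
      exact ⟨h3, h4 u, h4 v, h5.symm, h6.symm⟩
    · rintro ⟨h3, h4, h5, h6, h7⟩
      refine ⟨⟨h3, ?_⟩, h6.symm, h7.symm⟩
      rintro w rfl
      by_cases huw : u = w
      · exact h4 (by rw [huw])
      · exact hp.ncomm u w huw h6
  have s1 := sum_card T (fun d u => Commute d (p u)) k h1
  have s2 := sum_card_pairs T (fun d u => Commute d (p u)) μ h2
  have hc9 : Fintype.card (ZMod 3 × ZMod 3) = 9 := rfl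
  rw [hc9] at s1 s2
  -- the weighted sum
  have s3 : ∑ d ∈ T, (3 * (if (Finset.univ.filter (fun u => Commute d (p u))).card = 0
      then 1 else 0) + 48 * (if (Finset.univ.filter (fun u => Commute d (p u))).card = 9
      then 1 else 0) + 3 * (Finset.univ.filter (fun u => Commute d (p u))).card) =
      ∑ d ∈ T, (3 + (Finset.univ.filter (fun u => Commute d (p u))).card *
      ((Finset.univ.filter (fun u => Commute d (p u))).card - 1)) := by
    apply Finset.sum_congr rfl
    intro d _
    rcases hp.card_cases d with h | h | h | h <;> rw [h] <;> norm_num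
  rw [Finset.sum_add_distrib, Finset.sum_add_distrib, ← Finset.mul_sum, ← Finset.mul_sum,
    ← Finset.mul_sum, Finset.sum_add_distrib, s1, s2, Finset.sum_const, smul_eq_mul,
    ← Finset.card_filter, ← Finset.card_filter] at s3
  have e0 : (T.filter (fun d => (Finset.univ.filter (fun u => Commute d (p u))).card = 0)).card =
      (none' S p).ncard := by
    rw [← Set.ncard_coe_finset]
    refine congrArg Set.ncard (Set.ext fun d => ?_)
    rw [Finset.mem_coe, Finset.mem_filter, memT, Finset.card_eq_zero, Finset.filter_eq_empty_iff]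
    constructor
    · rintro ⟨⟨h3, h4⟩, h5⟩
      exact ⟨h3, fun u => h5 (Finset.mem_univ u)⟩
    · rintro ⟨h3, h4⟩
      refine ⟨⟨h3, ?_⟩, fun u _ => h4 u⟩
      rintro u rfl
      exact h4 u (Commute.refl _)
  have e9 : (T.filter (fun d => (Finset.univ.filter (fun u => Commute d (p u))).card = 9)).card =
      (perp S p).ncard := by
    rw [← Set.ncard_coe_finset]
    refine congrArg Set.ncard (Set.ext fun d => ?_)
    rw [Finset.mem_coe, Finset.mem_filter, memT, ← hc9, ← Finset.card_univ,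
      Finset.card_filter_eq_iff]
    constructor
    · rintro ⟨⟨h3, h4⟩, h5⟩
      exact ⟨h3, fun u => h5 u (Finset.mem_univ u)⟩
    · rintro ⟨h3, h4⟩
      refine ⟨⟨h3, ?_⟩, fun u _ => h4 u⟩
      rintro u rfl
      have h5 := h4 (u + (1, 0))
      refine hp.ncomm u (u + (1, 0)) ?_ h5
      intro h6
      have h7 : ((1 : ZMod 3), (0 : ZMod 3)) = 0 := by
        rw [left_eq_add] at h6
        exact h6
      exact absurd h7 (by decide)
  rw [e0, e9] at s3
  omega

end Planes

/-! ### Lines -/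

section Lines

variable {G : Type*} [Group G] {S : Set G}

theorem card_closed1 (F : Finset (ZMod 3)) (h : ∀ u ∈ F, ∀ v ∈ F, -u - v ∈ F) :
    F.card = 0 ∨ F.card = 1 ∨ F.card = 3 := by
  revert F
  decide +kernel

/-- the members of `S` not commuting with any point of the line `x, a, x ∘ a` -/
def Bx (S : Set G) (x a : G) : Set G :=
  {b | b ∈ S ∧ ¬ Commute b x ∧ ¬ Commute b a ∧ ¬ Commute b (cj x a)}

/-- the points of a line -/
def ln (x a : G) : ZMod 3 → G := fun i => if i = 0 then x else if i = 1 then a else cj x a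

theorem ln_zero (x a : G) : ln x a 0 = x := rfl
theorem ln_one (x a : G) : ln x a 1 = a := rfl
theorem ln_two (x a : G) : ln x a 2 = cj x a := rfl

theorem ln_third (hS : TSet S) {x a : G} (hx : x ∈ S) (ha : a ∈ S) (hxa : ¬ Commute x a)
    (i j : ZMod 3) : cj (ln x a i) (ln x a j) = ln x a (-i - j) := by
  have hc := hS.closed x hx a ha
  have hb := hS.braid x hx a ha hxa
  fin_cases i <;> fin_cases j
  · exact cj_self _
  · change cj x a = cj x a; rfl
  · change cj x (cj x a) = a; exact hS.cj_cj_self hx a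
  · change cj a x = cj x a; exact hb.symm
  · exact cj_self _
  · change cj a (cj x a) = x; rw [hb, hS.cj_cj_self ha]
  · change cj (cj x a) x = a; exact hS.cj_third hx ha hxa
  · change cj (cj x a) a = x; exact hS.cj_third' hx ha hxa
  · exact cj_self _

theorem ln_mem (hS : TSet S) {x a : G} (hx : x ∈ S) (ha : a ∈ S) (i : ZMod 3) : ln x a i ∈ S := by
  fin_cases i
  · exact hx
  · exact ha
  · exact hS.closed x hx a ha

theorem ln_ncomm (hS : TSet S) {x a : G} (hx : x ∈ S) (ha : a ∈ S) (hxa : ¬ Commute x a)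
    (i j : ZMod 3) (hij : i ≠ j) : ¬ Commute (ln x a i) (ln x a j) := by
  have h1 := hS.not_commute_third hx hxa
  have h2 := hS.not_commute_third' hx ha hxa
  fin_cases i <;> fin_cases j
  · exact absurd rfl hij
  · exact hxa
  · exact fun h => h1 h.symm
  · exact fun h => hxa h.symm
  · exact absurd rfl hij
  · exact fun h => h2 h.symm
  · exact h1
  · exact h2
  · exact absurd rfl hij

open Classical in
theorem line_count' [Finite G] {k μ : ℕ} (hS : TSet S) {x a : G} (hx : x ∈ S) (ha : a ∈ S)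
    (hxa : ¬ Commute x a)
    (hk : ∀ i, (Dx S (ln x a i)).ncard = k)
    (hμ : ∀ i j, i ≠ j → (XX S (ln x a i) (ln x a j)).ncard = μ) :
    (Bx S x a).ncard + 3 * k + 3 = S.ncard + 2 * μ := by
  have hfin : S.Finite := Set.toFinite S
  have hthird := ln_third hS hx ha hxa
  have hmem := ln_mem hS hx ha
  have hnc := ln_ncomm hS hx ha hxa
  have hB : Bx S x a = {b | b ∈ S ∧ ∀ i, ¬ Commute b (ln x a i)} := by
    ext b
    constructor
    · rintro ⟨h1, h2, h3, h4⟩
      refine ⟨h1, ?_⟩
      intro i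
      fin_cases i
      · exact h2
      · exact h3
      · exact h4
    · rintro ⟨h1, h2⟩
      exact ⟨h1, h2 0, h2 1, h2 2⟩
  rw [hB]
  generalize ln x a = p at hthird hmem hnc hk hμ ⊢
  have hinj : Function.Injective p := by
    intro u v huv
    by_contra hne
    exact hnc u v hne (by rw [huv])
  have hcases : ∀ d : G, (Finset.univ.filter (fun u => Commute d (p u))).card = 0 ∨
      (Finset.univ.filter (fun u => Commute d (p u))).card = 1 ∨
      (Finset.univ.filter (fun u => Commute d (p u))).card = 3 := by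
    intro d
    apply card_closed1
    intro u hu v hv
    rw [Finset.mem_filter] at hu hv ⊢
    refine ⟨Finset.mem_univ _, ?_⟩
    rw [← hthird]
    exact commute_cj_of hu.2 hv.2
  set P : Finset G := Finset.univ.image p with hP
  have hPcard : P.card = 3 := by
    rw [hP, Finset.card_image_of_injective _ hinj]; rfl
  set T : Finset G := hfin.toFinset \ P with hT
  have memT : ∀ d, d ∈ T ↔ d ∈ S ∧ ∀ u, d ≠ p u := by
    intro d
    rw [hT, Finset.mem_sdiff, Set.Finite.mem_toFinset, hP]
    simp only [Finset.mem_image, Finset.mem_univ, true_and, not_exists]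
    constructor
    · rintro ⟨h1, h2⟩; exact ⟨h1, fun u hu => h2 u hu.symm⟩
    · rintro ⟨h1, h2⟩; exact ⟨h1, fun u hu => h2 u hu.symm⟩
  have hsub : P ⊆ hfin.toFinset := by
    intro d hd
    rw [hP, Finset.mem_image] at hd
    obtain ⟨u, -, rfl⟩ := hd
    exact (Set.Finite.mem_toFinset _).2 (hmem u)
  have hTcard : T.card + 3 = S.ncard := by
    rw [hT, Set.ncard_eq_toFinset_card S hfin, ← hPcard, Finset.card_sdiff_add_card_eq_card hsub]
  have h1 : ∀ u : ZMod 3, (T.filter (fun d => Commute d (p u))).card = k := by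
    intro u
    rw [← hk u, ← Set.ncard_coe_finset]
    refine congrArg Set.ncard (Set.ext fun d => ?_)
    rw [Finset.mem_coe, Finset.mem_filter, memT]
    constructor
    · rintro ⟨⟨h2, h3⟩, h4⟩
      exact ⟨h2, h3 u, h4.symm⟩
    · rintro ⟨h2, h3, h4⟩
      refine ⟨⟨h2, ?_⟩, h4.symm⟩
      rintro v rfl
      by_cases huv : u = v
      · exact h3 (by rw [huv])
      · exact hnc u v huv h4
  have h2 : ∀ u v : ZMod 3, u ≠ v →
      (T.filter (fun d => Commute d (p u) ∧ Commute d (p v))).card = μ := by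
    intro u v huv
    rw [← hμ u v huv, ← Set.ncard_coe_finset]
    refine congrArg Set.ncard (Set.ext fun d => ?_)
    rw [Finset.mem_coe, Finset.mem_filter, memT]
    constructor
    · rintro ⟨⟨h3, h4⟩, h5, h6⟩
      exact ⟨h3, h4 u, h4 v, h5.symm, h6.symm⟩
    · rintro ⟨h3, h4, h5, h6, h7⟩
      refine ⟨⟨h3, ?_⟩, h6.symm, h7.symm⟩
      rintro w rfl
      by_cases huw : u = w
      · exact h4 (by rw [huw])
      · exact hnc u w huw h6
  have s1 := sum_card T (fun d u => Commute d (p u)) k h1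
  have s2 := sum_card_pairs T (fun d u => Commute d (p u)) μ h2
  have hc3 : Fintype.card (ZMod 3) = 3 := rfl
  rw [hc3] at s1 s2
  have s3 : ∑ d ∈ T, (3 * (if (Finset.univ.filter (fun u => Commute d (p u))).card = 0
      then 1 else 0) + 3 * (Finset.univ.filter (fun u => Commute d (p u))).card) =
      ∑ d ∈ T, (3 + (Finset.univ.filter (fun u => Commute d (p u))).card *
      ((Finset.univ.filter (fun u => Commute d (p u))).card - 1)) := by
    apply Finset.sum_congr rfl
    intro d _
    rcases hcases d with h | h | h <;> rw [h] <;> norm_num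
  rw [Finset.sum_add_distrib, ← Finset.mul_sum, ← Finset.mul_sum,
    Finset.sum_add_distrib, s1, s2, Finset.sum_const, smul_eq_mul,
    ← Finset.card_filter] at s3
  have e0 : (T.filter (fun d => (Finset.univ.filter (fun u => Commute d (p u))).card = 0)).card =
      {b | b ∈ S ∧ ∀ i, ¬ Commute b (p i)}.ncard := by
    rw [← Set.ncard_coe_finset]
    refine congrArg Set.ncard (Set.ext fun d => ?_)
    rw [Finset.mem_coe, Finset.mem_filter, memT, Finset.card_eq_zero, Finset.filter_eq_empty_iff]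
    constructor
    · rintro ⟨⟨h3, h4⟩, h5⟩
      exact ⟨h3, fun u => h5 (Finset.mem_univ u)⟩
    · rintro ⟨h3, h4⟩
      refine ⟨⟨h3, ?_⟩, fun u _ => h4 u⟩
      rintro u rfl
      exact h4 u (Commute.refl _)
  rw [e0] at s3
  omega

theorem line_count [Finite G] {k μ : ℕ} (hS : TSet S) {x a : G} (hx : x ∈ S) (ha : a ∈ S)
    (hxa : ¬ Commute x a)
    (hk : ∀ x ∈ S, (Dx S x).ncard = k)
    (hμ : ∀ x ∈ S, ∀ a ∈ S, ¬ Commute x a → (XX S x a).ncard = μ) :
    (Bx S x a).ncard + 3 * k + 3 = S.ncard + 2 * μ :=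
  line_count' hS hx ha hxa (fun i => hk _ (ln_mem hS hx ha i))
    (fun i j hij => hμ _ (ln_mem hS hx ha i) _ (ln_mem hS hx ha j) (ln_ncomm hS hx ha hxa i j hij))

end Lines

/-! ### Averages -/

section Average

variable {G : Type*} [Group G] {S : Set G}

theorem aff_of_Bx (hS : TSet S) {x a b : G} (hx : x ∈ S) (ha : a ∈ S) (hxa : ¬ Commute x a)
    (hb : b ∈ Bx S x a) : Aff S x a b where
  hx := hx
  ha := ha
  hb := hb.1
  xa := hxa
  xb := fun h => hb.2.1 h.symm
  ab := fun h => hb.2.2.1 h.symm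
  xab := by
    intro h1
    apply hb.2.2.2
    have h2 := (commute_cj (g := a)).2 h1
    rw [← hS.braid x hx a ha hxa, hS.cj_cj_self ha] at h2
    exact h2.symm

theorem Bx_of_pl {p : ZMod 3 × ZMod 3 → G} (hp : Pl S p) : p (0, 1) ∈ Bx S (p 0) (p (1, 0)) := by
  refine ⟨hp.mem _, hp.ncomm _ _ (by decide), hp.ncomm _ _ (by decide), ?_⟩
  rw [hp.third]
  exact hp.ncomm _ _ (by decide)

/-- the members of `S` commuting with `x, a, b` -/
def N3 (S : Set G) (x a b : G) : Set G := {d | d ∈ S ∧ Commute d x ∧ Commute d a ∧ Commute d b}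

theorem perp_eq_N3 {p : ZMod 3 × ZMod 3 → G} (hp : Pl S p) :
    perp S p = N3 S (p 0) (p (1, 0)) (p (0, 1)) := by
  ext d
  constructor
  · rintro ⟨h1, h2⟩
    exact ⟨h1, h2 _, h2 _, h2 _⟩
  · rintro ⟨h1, h2, h3, h4⟩
    exact ⟨h1, hp.commute_all h2 h3 h4⟩

open Classical in
theorem perp_avg [Finite G] {v k lam μ μ' m : ℕ} (hS : TSet S) (hv : S.ncard = v)
    (hk : ∀ x ∈ S, (Dx S x).ncard = k)
    (hμ : ∀ x ∈ S, ∀ a ∈ S, ¬ Commute x a → (XX S x a).ncard = μ)
    (hlam : ∀ d ∈ S, ∀ x ∈ Dx S d, (Dx (Dx S d) x).ncard = lam)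
    (hμ' : ∀ d ∈ S, ∀ x ∈ Dx S d, ∀ a ∈ Dx S d, ¬ Commute x a →
      (XX (Dx S d) x a).ncard = μ')
    (hm : ∀ p, Pl S p → (perp S p).ncard ≤ m)
    (num : μ * (k + 2 * μ') + m * (3 + 3 * k) = m * (v + 2 * μ) + μ * (3 + 3 * lam)) :
    ∀ p, Pl S p → (perp S p).ncard = m := by
  intro p hp
  have hfin : S.Finite := Set.toFinite S
  obtain ⟨x, hx0⟩ : ∃ x, x = p 0 := ⟨_, rfl⟩
  obtain ⟨a, ha0⟩ : ∃ a, a = p (1, 0) := ⟨_, rfl⟩
  have hx : x ∈ S := hx0 ▸ hp.mem _
  have ha : a ∈ S := ha0 ▸ hp.mem _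
  have hxa : ¬ Commute x a := by rw [hx0, ha0]; exact hp.ncomm _ _ (by decide)
  rw [perp_eq_N3 hp]
  have hb : p (0, 1) ∈ Bx S x a := by rw [hx0, ha0]; exact Bx_of_pl hp
  rw [← hx0, ← ha0]
  generalize p (0, 1) = b at hb
  -- all the terms are at most `m`
  have hle : ∀ b ∈ Bx S x a, (N3 S x a b).ncard ≤ m := by
    intro b hb
    obtain ⟨q, hq, q0, q1, q2, -⟩ := exists_pl hS (aff_of_Bx hS hx ha hxa hb)
    have := hm q hq
    rw [perp_eq_N3 hq, q0, q1, q2] at this
    exact this
  have hBfin : (Bx S x a).Finite := Set.toFinite _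
  have hXfin : (XX S x a).Finite := Set.toFinite _
  -- double counting
  have hdc : ∑ b ∈ hBfin.toFinset, (N3 S x a b).ncard =
      ∑ d ∈ hXfin.toFinset, (Bx (Dx S d) x a).ncard := by
    have := Finset.sum_card_bipartiteAbove_eq_sum_card_bipartiteBelow (s := hBfin.toFinset)
      (t := hXfin.toFinset) (fun b d => Commute d b)
    convert this using 1
    · apply Finset.sum_congr rfl
      intro b hb
      rw [Set.Finite.mem_toFinset] at hb
      rw [← Set.ncard_coe_finset]
      refine congrArg Set.ncard (Set.ext fun d => ?_)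
      rw [Finset.mem_coe, Finset.mem_bipartiteAbove, Set.Finite.mem_toFinset]
      constructor
      · rintro ⟨h1, h2, h3, h4⟩
        refine ⟨⟨h1, ?_, ?_, h2.symm, h3.symm⟩, h4⟩
        · rintro rfl; exact hb.2.1 h4.symm
        · rintro rfl; exact hb.2.2.1 h4.symm
      · rintro ⟨⟨h1, -, -, h2, h3⟩, h4⟩
        exact ⟨h1, h2.symm, h3.symm, h4⟩
    · apply Finset.sum_congr rfl
      intro d hd
      rw [Set.Finite.mem_toFinset] at hd
      rw [← Set.ncard_coe_finset]
      refine congrArg Set.ncard (Set.ext fun b => ?_)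
      rw [Finset.mem_coe, Finset.mem_bipartiteBelow, Set.Finite.mem_toFinset]
      constructor
      · rintro ⟨⟨h1, h2, h3⟩, h4⟩
        exact ⟨⟨h1, h4⟩, h3⟩
      · rintro ⟨⟨h1, h4⟩, h3⟩
        refine ⟨⟨h1, ?_, h3⟩, h4⟩
        rintro rfl
        exact h4.1 hd.2.2.2.1.symm
  have hsum : ∀ d ∈ hXfin.toFinset, (Bx (Dx S d) x a).ncard + 3 * lam + 3 = k + 2 * μ' := by
    intro d hd
    rw [Set.Finite.mem_toFinset] at hd
    obtain ⟨h1, h2, h3, h4, h5⟩ := hd
    rw [← hk d h1]
    exact line_count (dx_closed hS d) ⟨hx, fun h => h2 h.symm, h4.symm⟩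
      ⟨ha, fun h => h3 h.symm, h5.symm⟩ hxa (hlam d h1) (hμ' d h1)
  have hB := line_count hS hx ha hxa hk hμ
  have hXc : hXfin.toFinset.card = μ := by
    rw [← hμ x hx a ha hxa, ← Set.ncard_eq_toFinset_card]
  have hBc : hBfin.toFinset.card = (Bx S x a).ncard := by
    rw [← Set.ncard_eq_toFinset_card]
  have hsum' : ∑ d ∈ hXfin.toFinset, (Bx (Dx S d) x a).ncard + μ * (3 * lam + 3) =
      μ * (k + 2 * μ') := by
    have h1 : ∑ d ∈ hXfin.toFinset, ((Bx (Dx S d) x a).ncard + (3 * lam + 3)) =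
        ∑ d ∈ hXfin.toFinset, (k + 2 * μ') :=
      Finset.sum_congr rfl (fun d hd => by rw [← hsum d hd]; ring)
    rw [Finset.sum_add_distrib, Finset.sum_const, Finset.sum_const, hXc, smul_eq_mul,
      smul_eq_mul] at h1
    exact h1
  have htot : ∑ b ∈ hBfin.toFinset, (N3 S x a b).ncard = ∑ b ∈ hBfin.toFinset, m := by
    rw [hdc, Finset.sum_const, smul_eq_mul, hBc]
    rw [hv] at hB
    nlinarith [hB, hsum', num]
  have := (Finset.sum_eq_sum_iff_of_le (s := hBfin.toFinset) (fun b hb =>
    hle b (by rwa [Set.Finite.mem_toFinset] at hb))).1 htot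
  exact this b (by rwa [Set.Finite.mem_toFinset])

end Average

end Cfsg.Agent.TSp.Count
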