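import Mathlib
import Cfsg.Agent.TSp.Count
import Cfsg.Agent.TSp.UCount

set_option autoImplicit false

/-!
# Every affine plane of a space of type `T6` (`T7`) has exactly 18 (27) perpendicular points
-/

namespace Cfsg.Agent.TSp.Perp

open Cfsg Cfsg.Agent.SporadicStructure.FischerSpace Cfsg.Agent.ThreeTransPolar.Basic
open Cfsg.Agent.Fischer480.Defs hiding FGroup
open Cfsg.Agent.TSp.Basic hiding FGroup
open Cfsg.Agent.TSp.SimpleConn Cfsg.Agent.TSp.Plane Cfsg.Agent.TSp.Count Cfsg.Agent.TSp.UCount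

variable {G : Type*} [Group G] {S : Set G}

/-- the numbers of type `T6` -/
structure N6 (E : Set G) : Prop where
  card : E.ncard = 3510
  loc : ∀ x ∈ E, IsU 6 (Loc E x)
  com : ∀ x ∈ E, ∀ a ∈ E, ¬ Commute x a → (Com E x a).ncard = 126

/-- the numbers of type `T7` -/
structure N7 (E : Set G) : Prop where
  card : E.ncard = 31671
  loc : ∀ x ∈ E, N6 (Loc E x)
  com : ∀ x ∈ E, ∀ a ∈ E, ¬ Commute x a → (Com E x a).ncard = 351

theorem XX_eq {x a : G} (hxa : ¬ Commute x a) : XX S x a = Com S x a := by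
  ext z
  constructor
  · rintro ⟨h1, -, -, h2, h3⟩
    exact ⟨h1, h2, h3⟩
  · rintro ⟨h1, h2, h3⟩
    refine ⟨h1, ?_, ?_, h2, h3⟩
    · rintro rfl; exact hxa h3.symm
    · rintro rfl; exact hxa h2

theorem Dx_eq (x : G) : Dx S x = Loc S x := rfl

theorem six_perp [Finite G] (hS : TSet S) (h : N6 S) : ∀ p, Pl S p → (perp S p).ncard = 18 := by
  have hk : ∀ x ∈ S, (Dx S x).ncard = 693 := fun x hx => (numbers_six (h.loc x hx)).1
  have hμ : ∀ x ∈ S, ∀ a ∈ S, ¬ Commute x a → (XX S x a).ncard = 126 := by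
    intro x hx a ha hxa
    rw [XX_eq hxa]; exact h.com x hx a ha hxa
  refine perp_avg hS h.card hk hμ (lam := 180) (μ' := 45) ?_ ?_ ?_ (by norm_num)
  · exact fun d hd => (numbers_six (h.loc d hd)).2.1
  · intro d hd x hx a ha hxa
    rw [XX_eq hxa]
    exact (numbers_six (h.loc d hd)).2.2 x hx a ha hxa
  · intro p hp
    have := plane_count hp hk hμ
    rw [h.card] at this
    omega

theorem six_none [Finite G] (hS : TSet S) (h : N6 S) : ∀ p, Pl S p → (none' S p).ncard = 0 := by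
  intro p hp
  have hk : ∀ x ∈ S, (Dx S x).ncard = 693 := fun x hx => (numbers_six (h.loc x hx)).1
  have hμ : ∀ x ∈ S, ∀ a ∈ S, ¬ Commute x a → (XX S x a).ncard = 126 := by
    intro x hx a ha hxa
    rw [XX_eq hxa]; exact h.com x hx a ha hxa
  have := plane_count hp hk hμ
  rw [h.card, six_perp hS h p hp] at this
  omega

/-! ### Type `T7` -/

/-- double counting -/
theorem dc {α β : Type*} {s : Set α} {t : Set β} (hs : s.Finite) (ht : t.Finite)
    (r : α → β → Prop) :
    ∑ a ∈ hs.toFinset, {b | b ∈ t ∧ r a b}.ncard = ∑ b ∈ ht.toFinset, {a | a ∈ s ∧ r a b}.ncard := by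
  classical
  have := Finset.sum_card_bipartiteAbove_eq_sum_card_bipartiteBelow (s := hs.toFinset)
      (t := ht.toFinset) r
  convert this using 1
  · apply Finset.sum_congr rfl
    intro a _
    rw [← Set.ncard_coe_finset]
    refine congrArg Set.ncard (Set.ext fun b => ?_)
    rw [Finset.mem_coe, Finset.mem_bipartiteAbove, Set.Finite.mem_toFinset]
    exact Iff.rfl
  · apply Finset.sum_congr rfl
    intro b _
    rw [← Set.ncard_coe_finset]
    refine congrArg Set.ncard (Set.ext fun a => ?_)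
    rw [Finset.mem_coe, Finset.mem_bipartiteBelow, Set.Finite.mem_toFinset]
    exact Iff.rfl

theorem xx_tset (hS : TSet S) (d e : G) : TSet (XX S d e) := by
  refine hS.subset_closed (fun y hy => hy.1) ?_
  rintro y ⟨hy, hyd, hye, hdy, hey⟩ z ⟨hz, hzd, hze, hdz, hez⟩
  refine ⟨hS.closed y hy z hz, ?_, ?_, commute_cj_of hdy hdz, commute_cj_of hey hez⟩
  · intro h1
    apply hzd
    have h2 : cj y (cj y z) = z := hS.cj_cj_self hy z
    rw [h1, cj_of_commute hdy.symm] at h2
    exact h2.symm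
  · intro h1
    apply hze
    have h2 : cj y (cj y z) = z := hS.cj_cj_self hy z
    rw [h1, cj_of_commute hey.symm] at h2
    exact h2.symm

theorem zmod_three : ∀ i j k : ZMod 3, i ≠ j → k = i ∨ k = j ∨ k = -i - j := by decide

section Seven

variable [Finite G] (hS : TSet S) (h : N7 S) {x a : G} (hx : x ∈ S) (ha : a ∈ S)
  (hxa : ¬ Commute x a)

include hS h hx ha hxa

/-- the number of members of `B` commuting with `d, e` -/
theorem c_self {d : G} (hd : d ∈ XX S x a) :
    {b | b ∈ Bx S x a ∧ (Commute d b ∧ Commute d b)}.ncard = 1680 := by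
  obtain ⟨hdS, hdx, hda, hxd, had⟩ := hd
  have e : {b | b ∈ Bx S x a ∧ (Commute d b ∧ Commute d b)} = Bx (Dx S d) x a := by
    ext b
    constructor
    · rintro ⟨⟨h1, h2⟩, h3, -⟩
      refine ⟨⟨h1, ?_, h3⟩, h2⟩
      rintro rfl
      exact h2.1 hxd.symm
    · rintro ⟨⟨h1, -, h3⟩, h2⟩
      exact ⟨⟨h1, h2⟩, h3, h3⟩
  rw [e]
  have hN := h.loc d hdS
  have h1 := line_count (k := 693) (μ := 126) (dx_closed hS d) (x := x) (a := a)
    ⟨hx, hdx.symm, hxd.symm⟩ ⟨ha, hda.symm, had.symm⟩ hxa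
    (fun y hy => (numbers_six (hN.loc y hy)).1)
    (fun y hy z hz hyz => by rw [XX_eq hyz]; exact hN.com y hy z hz hyz)
  have h2 : (Dx S d).ncard = 3510 := hN.card
  omega

theorem c_comm {d e : G} (hd : d ∈ XX S x a) (he : e ∈ XX S x a) (hne : e ≠ d)
    (hde : Commute d e) : {b | b ∈ Bx S x a ∧ (Commute d b ∧ Commute e b)}.ncard = 240 := by
  obtain ⟨hdS, hdx, hda, hxd, had⟩ := hd
  obtain ⟨heS, hex, hea, hxe, hae⟩ := he
  have e' : {b | b ∈ Bx S x a ∧ (Commute d b ∧ Commute e b)} = Bx (Dx (Dx S d) e) x a := by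
    ext b
    constructor
    · rintro ⟨⟨h1, h2⟩, h3, h4⟩
      refine ⟨⟨⟨h1, ?_, h3⟩, ?_, h4⟩, h2⟩
      · rintro rfl
        exact h2.1 hxd.symm
      · rintro rfl
        exact h2.1 hxe.symm
    · rintro ⟨⟨⟨h1, -, h3⟩, -, h4⟩, h2⟩
      exact ⟨⟨h1, h2⟩, h3, h4⟩
  rw [e']
  have hN := h.loc d hdS
  obtain ⟨n1, n2, n3⟩ := numbers_six (hN.loc e ⟨heS, hne, hde⟩)
  have h1 := line_count (k := 180) (μ := 45) (dx_closed (dx_closed hS d) e) (x := x) (a := a)
    ⟨⟨hx, hdx.symm, hxd.symm⟩, hex.symm, hxe.symm⟩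
    ⟨⟨ha, hda.symm, had.symm⟩, hea.symm, hae.symm⟩ hxa n2
    (fun y hy z hz hyz => by rw [XX_eq hyz]; exact n3 y hy z hz hyz)
  have h2 : (Dx (Dx S d) e).ncard = 693 := n1
  omega

theorem c_ncomm {d e : G} (hd : d ∈ XX S x a) (he : e ∈ XX S x a) (hde : ¬ Commute d e) :
    {b | b ∈ Bx S x a ∧ (Commute d b ∧ Commute e b)}.ncard + 30 =
      2 * (XX (XX S d e) x a).ncard := by
  obtain ⟨hdS, hdx, hda, hxd, had⟩ := hd
  obtain ⟨heS, hex, hea, hxe, hae⟩ := he
  have e' : {b | b ∈ Bx S x a ∧ (Commute d b ∧ Commute e b)} = Bx (XX S d e) x a := by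
    ext b
    constructor
    · rintro ⟨⟨h1, h2⟩, h3, h4⟩
      refine ⟨⟨h1, ?_, ?_, h3, h4⟩, h2⟩
      · rintro rfl
        exact h2.1 hxd.symm
      · rintro rfl
        exact h2.1 hxe.symm
    · rintro ⟨⟨h1, -, -, h3, h4⟩, h2⟩
      exact ⟨⟨h1, h2⟩, h3, h4⟩
  rw [e']
  have hT := xx_tset hS d e
  have hxT : x ∈ XX S d e := ⟨hx, hdx.symm, hex.symm, hxd.symm, hxe.symm⟩
  have haT : a ∈ XX S d e := ⟨ha, hda.symm, hea.symm, had.symm, hae.symm⟩
  have hk : ∀ i, (Dx (XX S d e) (ln x a i)).ncard = 126 := by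
    intro i
    have hi := ln_mem hT hxT haT i
    generalize ln x a i = y at hi
    obtain ⟨hyS, hyd, hye, hdy, hey⟩ := hi
    have e2 : Dx (XX S d e) y = XX (Dx S y) d e := by
      ext z
      constructor
      · rintro ⟨⟨h1, h2, h3, h4, h5⟩, h6, h7⟩
        exact ⟨⟨h1, h6, h7⟩, h2, h3, h4, h5⟩
      · rintro ⟨⟨h1, h6, h7⟩, h2, h3, h4, h5⟩
        exact ⟨⟨h1, h2, h3, h4, h5⟩, h6, h7⟩
    rw [e2, XX_eq hde]
    exact (h.loc y hyS).com d ⟨hdS, hyd.symm, hdy.symm⟩ e ⟨heS, hye.symm, hey.symm⟩ hde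
  have hμ : ∀ i j, i ≠ j → (XX (XX S d e) (ln x a i) (ln x a j)).ncard =
      (XX (XX S d e) x a).ncard := by
    intro i j hij
    refine congrArg Set.ncard (Set.ext fun z => ?_)
    rw [XX_eq hxa, XX_eq (ln_ncomm hT hxT haT hxa i j hij)]
    -- commuting with two points of the line means commuting with all
    have hall : ∀ i j : ZMod 3, i ≠ j → Commute (ln x a i) z → Commute (ln x a j) z →
        ∀ k, Commute (ln x a k) z := by
      intro i j hij h1 h2 k
      have h3 : Commute (ln x a (-i - j)) z := by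
        rw [← ln_third hT hxT haT hxa i j]
        exact (commute_cj_of h1.symm h2.symm).symm
      rcases zmod_three i j k hij with rfl | rfl | rfl
      · exact h1
      · exact h2
      · exact h3
    constructor
    · rintro ⟨h1, h2, h3⟩
      exact ⟨h1, hall i j hij h2 h3 0, hall i j hij h2 h3 1⟩
    · rintro ⟨h1, h2, h3⟩
      exact ⟨h1, hall 0 1 (by decide) h2 h3 i, hall 0 1 (by decide) h2 h3 j⟩
  have h1 := line_count' hT hxT haT hxa hk hμ
  have h2 : (XX S d e).ncard = 351 := by rw [XX_eq hde]; exact h.com d hdS e heS hde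
  omega

/-- for fixed `d`, the sum over the `e` not commuting with `d` of the numbers of common
neighbours -/
theorem sum_common {d : G} (hd : d ∈ XX S x a)
    (hfin : {e | e ∈ XX S x a ∧ ¬ Commute d e}.Finite) :
    ∑ e ∈ hfin.toFinset, (XX (XX S d e) x a).ncard = 10080 := by
  obtain ⟨hdS, hdx, hda, hxd, had⟩ := hd
  have hNd := h.loc d hdS
  set t : Set G := XX (Dx S d) x a with ht
  have htfin : t.Finite := Set.toFinite _
  have h1 := dc hfin htfin (fun e z => Commute e z)
  have e1 : ∀ e ∈ hfin.toFinset, {z | z ∈ t ∧ Commute e z}.ncard =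
      (XX (XX S d e) x a).ncard := by
    intro e he
    rw [Set.Finite.mem_toFinset] at he
    obtain ⟨⟨heS, hex, hea, hxe, hae⟩, hde⟩ := he
    refine congrArg Set.ncard (Set.ext fun z => ?_)
    constructor
    · rintro ⟨⟨⟨h1, h2, h3⟩, h4, h5, h6, h7⟩, h8⟩
      refine ⟨⟨h1, h2, ?_, h3, h8⟩, h4, h5, h6, h7⟩
      rintro rfl
      exact hde h3
    · rintro ⟨⟨h1, h2, -, h3, h8⟩, h4, h5, h6, h7⟩
      exact ⟨⟨⟨h1, h2, h3⟩, h4, h5, h6, h7⟩, h8⟩
  rw [← Finset.sum_congr rfl e1, h1]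
  have e2 : ∀ z ∈ htfin.toFinset, {e | e ∈ {e | e ∈ XX S x a ∧ ¬ Commute d e} ∧
      Commute e z}.ncard = 80 := by
    intro z hz
    rw [Set.Finite.mem_toFinset] at hz
    obtain ⟨⟨hzS, hzd, hdz⟩, hzx, hza, hxz, haz⟩ := hz
    have hNz := h.loc z hzS
    have hxz' : x ∈ Dx S z := ⟨hx, hzx.symm, hxz.symm⟩
    have haz' : a ∈ Dx S z := ⟨ha, hza.symm, haz.symm⟩
    -- `Y` : the 126 common neighbours of `x, a, z`
    have hY : (XX (Dx S z) x a).ncard = 126 := by
      rw [XX_eq hxa]; exact hNz.com x hxz' a haz' hxa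
    have hdY : d ∈ XX (Dx S z) x a := ⟨⟨hdS, hzd.symm, hdz.symm⟩, hdx, hda, hxd, had⟩
    have h45 : (XX (Dx (Dx S z) d) x a).ncard = 45 := by
      rw [XX_eq hxa]
      exact (numbers_six (hNz.loc d hdY.1)).2.2 x ⟨hxz', hdx.symm, hxd.symm⟩ a
        ⟨haz', hda.symm, had.symm⟩ hxa
    -- split `Y`
    have hsplit : XX (Dx S z) x a = {e | e ∈ {e | e ∈ XX S x a ∧ ¬ Commute d e} ∧
        Commute e z} ∪ insert d (XX (Dx (Dx S z) d) x a) := by
      ext e
      constructor
      · rintro ⟨⟨h1, h2, h3⟩, h4, h5, h6, h7⟩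
        by_cases hde : Commute d e
        · right
          by_cases hed : e = d
          · exact Or.inl hed
          · exact Or.inr ⟨⟨⟨h1, h2, h3⟩, hed, hde⟩, h4, h5, h6, h7⟩
        · left
          exact ⟨⟨⟨h1, h4, h5, h6, h7⟩, hde⟩, h3.symm⟩
      · rintro (⟨⟨⟨h1, h4, h5, h6, h7⟩, hde⟩, h3⟩ | rfl | ⟨⟨⟨h1, h2, h3⟩, hed, hde⟩, h4, h5, h6, h7⟩)
        · refine ⟨⟨h1, ?_, h3.symm⟩, h4, h5, h6, h7⟩
          rintro rfl
          exact hde hdz
        · exact hdY
        · exact ⟨⟨h1, h2, h3⟩, h4, h5, h6, h7⟩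
    have hdisj : Disjoint {e | e ∈ {e | e ∈ XX S x a ∧ ¬ Commute d e} ∧ Commute e z}
        (insert d (XX (Dx (Dx S z) d) x a)) := by
      rw [Set.disjoint_left]
      rintro e ⟨⟨-, hde⟩, -⟩ (rfl | ⟨⟨-, -, h2⟩, -⟩)
      · exact hde (Commute.refl _)
      · exact hde h2
    have hnot : d ∉ XX (Dx (Dx S z) d) x a := fun h1 => h1.1.2.1 rfl
    have h2 := congrArg Set.ncard hsplit
    rw [Set.ncard_union_eq hdisj (Set.toFinite _) (Set.toFinite _),
      Set.ncard_insert_of_notMem hnot (Set.toFinite _), hY, h45] at h2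
    omega
  have h6 : (Com (Dx S d) x a).ncard = 126 :=
    hNd.com x ⟨hx, hdx.symm, hxd.symm⟩ a ⟨ha, hda.symm, had.symm⟩ hxa
  rw [Finset.sum_congr rfl e2, Finset.sum_const, smul_eq_mul, ← Set.ncard_eq_toFinset_card t htfin,
    ht, XX_eq hxa, h6]

/-- the sum over all `e` -/
theorem sum_c {d : G} (hd : d ∈ XX S x a) (hXfin : (XX S x a).Finite) :
    ∑ e ∈ hXfin.toFinset, {b | b ∈ Bx S x a ∧ (Commute d b ∧ Commute e b)}.ncard = 45360 := by
  classical
  have hdX := hd
  obtain ⟨hdS, hdx, hda, hxd, had⟩ := hd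
  have hNd := h.loc d hdS
  -- three parts of `X`
  have hfin1 : {e | e ∈ XX S x a ∧ ¬ Commute d e}.Finite := Set.toFinite _
  have hfin2 : (XX (Dx S d) x a).Finite := Set.toFinite _
  have hX : hXfin.toFinset = hfin1.toFinset ∪ (insert d hfin2.toFinset) := by
    ext e
    rw [Finset.mem_union, Finset.mem_insert, Set.Finite.mem_toFinset, Set.Finite.mem_toFinset,
      Set.Finite.mem_toFinset]
    constructor
    · intro he
      by_cases hde : Commute d e
      · right
        by_cases hed : e = d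
        · exact Or.inl hed
        · exact Or.inr ⟨⟨he.1, hed, hde⟩, he.2⟩
      · exact Or.inl ⟨he, hde⟩
    · rintro (⟨he, -⟩ | rfl | ⟨⟨h1, -, -⟩, h2⟩)
      · exact he
      · exact hdX
      · exact ⟨h1, h2⟩
  have hdisj : Disjoint hfin1.toFinset (insert d hfin2.toFinset) := by
    rw [Finset.disjoint_left]
    intro e he
    rw [Set.Finite.mem_toFinset] at he
    rw [Finset.mem_insert, Set.Finite.mem_toFinset]
    rintro (rfl | ⟨⟨-, -, h2⟩, -⟩)
    · exact he.2 (Commute.refl _)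
    · exact he.2 h2
  have hnot : d ∉ hfin2.toFinset := by
    rw [Set.Finite.mem_toFinset]
    exact fun h1 => h1.1.2.1 rfl
  have c2 : hfin2.toFinset.card = 126 := by
    rw [← Set.ncard_eq_toFinset_card _ hfin2, XX_eq hxa]
    exact hNd.com x ⟨hx, hdx.symm, hxd.symm⟩ a ⟨ha, hda.symm, had.symm⟩ hxa
  have cX : hXfin.toFinset.card = 351 := by
    rw [← Set.ncard_eq_toFinset_card _ hXfin, XX_eq hxa]
    exact h.com x hx a ha hxa
  have c1 : hfin1.toFinset.card = 224 := by
    have := congrArg Finset.card hX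
    rw [Finset.card_union_of_disjoint hdisj, Finset.card_insert_of_notMem hnot, c2, cX] at this
    omega
  rw [hX, Finset.sum_union hdisj, Finset.sum_insert hnot, c_self hS h hx ha hxa hdX]
  have s2 : ∑ e ∈ hfin2.toFinset, {b | b ∈ Bx S x a ∧ (Commute d b ∧ Commute e b)}.ncard =
      126 * 240 := by
    rw [← c2, ← smul_eq_mul, ← Finset.sum_const]
    apply Finset.sum_congr rfl
    intro e he
    rw [Set.Finite.mem_toFinset] at he
    exact c_comm hS h hx ha hxa hdX ⟨he.1.1, he.2⟩ he.1.2.1 he.1.2.2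
  have s1 : ∑ e ∈ hfin1.toFinset, {b | b ∈ Bx S x a ∧ (Commute d b ∧ Commute e b)}.ncard +
      224 * 30 = 2 * 10080 := by
    rw [← sum_common hS h hx ha hxa hdX hfin1, ← c1, ← smul_eq_mul (a := hfin1.toFinset.card),
      ← Finset.sum_const, ← Finset.sum_add_distrib, Finset.mul_sum]
    apply Finset.sum_congr rfl
    intro e he
    rw [Set.Finite.mem_toFinset] at he
    exact c_ncomm hS h hx ha hxa hdX he.1 he.2
  rw [s2]
  omega

/-- **all planes have 27 perpendicular points** -/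
theorem seven_N3 {b : G} (hb : b ∈ Bx S x a) : (N3 S x a b).ncard = 27 := by
  classical
  have hXfin : (XX S x a).Finite := Set.toFinite _
  have hBfin : (Bx S x a).Finite := Set.toFinite _
  have hk : ∀ x ∈ S, (Dx S x).ncard = 3510 := fun x hx => (h.loc x hx).card
  have hμ : ∀ x ∈ S, ∀ a ∈ S, ¬ Commute x a → (XX S x a).ncard = 351 := by
    intro x hx a ha hxa
    rw [XX_eq hxa]; exact h.com x hx a ha hxa
  have hB : (Bx S x a).ncard = 21840 := by
    have := line_count hS hx ha hxa hk hμ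
    rw [h.card] at this
    omega
  have cX : hXfin.toFinset.card = 351 := by
    rw [← Set.ncard_eq_toFinset_card _ hXfin]; exact hμ x hx a ha hxa
  have cB : hBfin.toFinset.card = 21840 := by
    rw [← Set.ncard_eq_toFinset_card _ hBfin]; exact hB
  have hN : ∀ b ∈ hBfin.toFinset, (N3 S x a b).ncard =
      (hXfin.toFinset.filter (fun d => Commute d b)).card := by
    intro b hb
    rw [Set.Finite.mem_toFinset] at hb
    rw [← Set.ncard_coe_finset]
    refine congrArg Set.ncard (Set.ext fun d => ?_)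
    rw [Finset.mem_coe, Finset.mem_filter, Set.Finite.mem_toFinset]
    constructor
    · rintro ⟨h1, h2, h3, h4⟩
      refine ⟨⟨h1, ?_, ?_, h2.symm, h3.symm⟩, h4⟩
      · rintro rfl; exact hb.2.1 h4.symm
      · rintro rfl; exact hb.2.2.1 h4.symm
    · rintro ⟨⟨h1, -, -, h2, h3⟩, h4⟩
      exact ⟨h1, h2.symm, h3.symm, h4⟩
  -- second moment
  have hC : ∀ d e : G, {b | b ∈ Bx S x a ∧ (Commute d b ∧ Commute e b)}.ncard =
      (hBfin.toFinset.filter (fun b => Commute d b ∧ Commute e b)).card := by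
    intro d e
    rw [← Set.ncard_coe_finset]
    refine congrArg Set.ncard (Set.ext fun b => ?_)
    rw [Finset.mem_coe, Finset.mem_filter, Set.Finite.mem_toFinset]
    exact Iff.rfl
  have S2 : ∑ b ∈ hBfin.toFinset, (hXfin.toFinset.filter (fun d => Commute d b)).card *
      (hXfin.toFinset.filter (fun d => Commute d b)).card = 351 * 45360 := by
    have e1 : ∀ b ∈ hBfin.toFinset, (hXfin.toFinset.filter (fun d => Commute d b)).card *
        (hXfin.toFinset.filter (fun d => Commute d b)).card =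
        ∑ d ∈ hXfin.toFinset, ∑ e ∈ hXfin.toFinset,
          if (Commute d b ∧ Commute e b) then 1 else 0 := by
      intro b _
      rw [Finset.card_filter, Finset.sum_mul_sum]
      apply Finset.sum_congr rfl
      intro d _
      apply Finset.sum_congr rfl
      intro e _
      by_cases h1 : Commute d b <;> by_cases h2 : Commute e b <;> simp [h1, h2]
    rw [Finset.sum_congr rfl e1, Finset.sum_comm]
    have e2 : ∀ d ∈ hXfin.toFinset, (∑ b ∈ hBfin.toFinset, ∑ e ∈ hXfin.toFinset,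
        if (Commute d b ∧ Commute e b) then 1 else 0) = 45360 := by
      intro d hd
      rw [Set.Finite.mem_toFinset] at hd
      rw [Finset.sum_comm, ← sum_c hS h hx ha hxa hd hXfin]
      apply Finset.sum_congr rfl
      intro e _
      rw [hC, Finset.card_filter]
    rw [Finset.sum_congr rfl e2, Finset.sum_const, cX, smul_eq_mul]
  -- first moment
  have S1 : ∑ b ∈ hBfin.toFinset, (hXfin.toFinset.filter (fun d => Commute d b)).card =
      351 * 1680 := by
    have e1 : ∀ b ∈ hBfin.toFinset, (hXfin.toFinset.filter (fun d => Commute d b)).card =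
        ∑ d ∈ hXfin.toFinset, if Commute d b then 1 else 0 := by
      intro b _
      rw [Finset.card_filter]
    rw [Finset.sum_congr rfl e1, Finset.sum_comm]
    have e2 : ∀ d ∈ hXfin.toFinset, (∑ b ∈ hBfin.toFinset, if Commute d b then 1 else 0) =
        1680 := by
      intro d hd
      rw [Set.Finite.mem_toFinset] at hd
      rw [← c_self hS h hx ha hxa hd, hC, Finset.card_filter]
      apply Finset.sum_congr rfl
      intro b _
      by_cases h1 : Commute d b <;> simp [h1]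
    rw [Finset.sum_congr rfl e2, Finset.sum_const, cX, smul_eq_mul]
  -- variance
  have V : ∑ b ∈ hBfin.toFinset, (((hXfin.toFinset.filter (fun d => Commute d b)).card : ℤ) - 27) ^ 2
      = 0 := by
    have e1 : ∀ b ∈ hBfin.toFinset,
        (((hXfin.toFinset.filter (fun d => Commute d b)).card : ℤ) - 27) ^ 2 =
        ((((hXfin.toFinset.filter (fun d => Commute d b)).card *
          (hXfin.toFinset.filter (fun d => Commute d b)).card : ℕ) : ℤ) -
          54 * (((hXfin.toFinset.filter (fun d => Commute d b)).card : ℕ) : ℤ)) + 729 := by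
      intro b _
      push_cast
      ring
    rw [Finset.sum_congr rfl e1, Finset.sum_add_distrib, Finset.sum_sub_distrib, ← Finset.mul_sum,
      ← Nat.cast_sum, ← Nat.cast_sum, S1, S2, Finset.sum_const, cB]
    norm_num
  rw [Finset.sum_eq_zero_iff_of_nonneg (fun b _ => sq_nonneg _)] at V
  have hb' : b ∈ hBfin.toFinset := by rwa [Set.Finite.mem_toFinset]
  have h1 := V b hb'
  rw [← hN b hb'] at h1
  have h2 := pow_eq_zero_iff (two_ne_zero) |>.1 h1
  omega

end Seven

theorem seven_perp [Finite G] (hS : TSet S) (h : N7 S) : ∀ p, Pl S p → (perp S p).ncard = 27 := by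
  intro p hp
  rw [perp_eq_N3 hp]
  exact seven_N3 hS h (hp.mem _) (hp.mem _) (hp.ncomm _ _ (by decide)) (Bx_of_pl hp)

end Cfsg.Agent.TSp.Perp
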