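import Mathlib
import Cfsg.Agent.TSp.Plane
import Cfsg.Agent.S0480U.UModel
import Cfsg.Agent.ClassicalGeometry.HermOrtho

set_option autoImplicit false

/-!
# Affine planes in a space of type `U(6)`

For an affine triple `x, a, b` of a set `E` of type `U(6)` there is an affine triple `x', a', b'` of
members of `E` commuting with `x, a, b` such that the product of the two central elements commutes
with all members of `E`.
-/

namespace Cfsg.Agent.TSp.UPlane

open Cfsg Cfsg.Agent.SporadicStructure.FischerSpace Cfsg.Agent.ThreeTransPolar.Basic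
open Cfsg.Agent.Fischer480.Defs hiding FGroup
open Cfsg.Agent.TSp.Basic hiding FGroup
open Cfsg.Agent.TSp.SimpleConn Cfsg.Agent.TSp.Plane
open Cfsg.Agent.S0480U.UModel Cfsg.Agent.Fischer920.PsuEnd Cfsg.Agent.S0480U.Herm
open Cfsg.Agent.ClassicalGeometry.HermOrtho Cfsg.Agent.LieClassical.HermBasic

section Linear

variable {F V : Type*} [Field F] [Fintype F] [AddCommGroup V] [Module F V] {h : V → V → F}

/-- the transvection -/
def TL (H : HermSp F V h) (s : V) : V →ₗ[F] V where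
  toFun t := t + h t s • s
  map_add' t t' := by rw [H.add_left, add_smul]; abel
  map_smul' c t := by rw [H.smul_left, mul_smul, RingHom.id_apply, smul_add]

theorem TL_apply (H : HermSp F V h) (s t : V) : TL H s t = t + h t s • s := rfl

theorem TL_smul (hF : Fintype.card F = 4) (H : HermSp F V h) {c : F} (hc : c ≠ 0) (s : V) :
    TL H (c • s) = TL H s := by
  ext t
  rw [TL_apply, TL_apply, H.smul_right, smul_smul]
  have : c ^ 2 * h t s * c = h t s := by
    have := Cfsg.Agent.S0480U.Herm.pow_three hF hc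
    linear_combination (h t s) * this
  rw [this]

theorem TL_perp (H : HermSp F V h) {s t : V} (hts : h t s = 0) : TL H s t = t := by
  rw [TL_apply, hts, zero_smul, add_zero]

/-- the commutator -/
def KL (H : HermSp F V h) (u v w : V) : V →ₗ[F] V :=
  ((TL H u ∘ₗ TL H w) ∘ₗ (TL H u ∘ₗ TL H v)) ∘ₗ ((TL H w ∘ₗ TL H u) ∘ₗ (TL H v ∘ₗ TL H u))

theorem KL_perp (H : HermSp F V h) {u v w z : V} (h1 : h z u = 0) (h2 : h z v = 0)
    (h3 : h z w = 0) : KL H u v w z = z := by
  simp only [KL, LinearMap.comp_apply, TL_perp H h1, TL_perp H h2, TL_perp H h3]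

/-- Gram data of an affine triple -/
structure Gram (h : V → V → F) (γ : F) (u v w : V) : Prop where
  uu : h u u = 0
  vv : h v v = 0
  ww : h w w = 0
  uv : h u v = 1
  uw : h u w = 1
  vw : h v w = γ
  vu : h v u = 1
  wu : h w u = 1
  wv : h w v = γ ^ 2
  gam : γ ^ 2 + γ + 1 = 0

variable (hF : Fintype.card F = 4) (H : HermSp F V h) {γ : F} {u v w : V} (g : Gram h γ u v w)

include hF H g

theorem TL_comb_u (a b c : F) : TL H u (a • u + b • v + c • w) =
    (a + b + c) • u + b • v + c • w := by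
  rw [TL_apply, H.add_left, H.add_left, H.smul_left, H.smul_left, H.smul_left, g.uu, g.vu, g.wu]
  module

theorem TL_comb_v (a b c : F) : TL H v (a • u + b • v + c • w) =
    a • u + (b + a + c * γ ^ 2) • v + c • w := by
  rw [TL_apply, H.add_left, H.add_left, H.smul_left, H.smul_left, H.smul_left, g.uv, g.vv, g.wv]
  module

theorem TL_comb_w (a b c : F) : TL H w (a • u + b • v + c • w) =
    a • u + b • v + (c + a + b * γ) • w := by
  rw [TL_apply, H.add_left, H.add_left, H.smul_left, H.smul_left, H.smul_left, g.uw, g.vw, g.ww]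
  module

theorem KL_comb (a b c : F) : KL H u v w (a • u + b • v + c • w) =
    γ • (a • u + b • v + c • w) := by
  have h2 := Cfsg.Agent.S0480U.Herm.two_eq hF
  have hg := g.gam
  simp only [KL, LinearMap.comp_apply]
  rw [TL_comb_u hF H g, TL_comb_v hF H g, TL_comb_u hF H g, TL_comb_w hF H g, TL_comb_v hF H g,
    TL_comb_u hF H g, TL_comb_w hF H g, TL_comb_u hF H g]
  rw [smul_add, smul_add, smul_smul, smul_smul, smul_smul]
  congr 1
  · congr 1
    · congr 1
      linear_combination ((1)*a + (4)*a*γ^1 + (1)*a*γ^2 + (7)*b*γ^1 + (2)*b*γ^2 + (14)*c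
        + (9)*c*γ^1 + (3)*c*γ^3 + (1)*c*γ^4) * hg +
        ((9)*a + (15)*b + (2)*b*γ^1 + (8)*c + (-8)*c*γ^1) * h2
    · congr 1
      linear_combination ((1)*a + (1)*a*γ^1 + (1)*b + (2)*b*γ^1 + (6)*c + (1)*c*γ^3) * hg +
        ((1)*a + (-1)*a*γ^1 + (2)*b + (-2)*b*γ^1 + (-1)*c + (-3)*c*γ^1) * h2
  · congr 1
    linear_combination ((-1)*a + (2)*a*γ^1 + (1)*a*γ^2 + (-2)*b + (3)*b*γ^1 + (2)*b*γ^2 + (1)*c
      + (8)*c*γ^1 + (1)*c*γ^3 + (1)*c*γ^4) * hg +
      ((5)*a + (2)*a*γ^1 + (8)*b + (4)*b*γ^1 + (7)*c + (-2)*c*γ^1) * h2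

/-- the Gram matrix is invertible -/
theorem gram_zero {a b c : F} (h1 : h (a • u + b • v + c • w) u = 0)
    (h2 : h (a • u + b • v + c • w) v = 0) (h3 : h (a • u + b • v + c • w) w = 0) :
    a = 0 ∧ b = 0 ∧ c = 0 := by
  rw [H.add_left, H.add_left, H.smul_left, H.smul_left, H.smul_left, g.uu, g.vu, g.wu] at h1
  rw [H.add_left, H.add_left, H.smul_left, H.smul_left, H.smul_left, g.uv, g.vv, g.wv] at h2
  rw [H.add_left, H.add_left, H.smul_left, H.smul_left, H.smul_left, g.uw, g.vw, g.ww] at h3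
  have hg := g.gam
  have hc : c = 0 := by
    linear_combination c * hg - (γ * h1 + h2 - h3)
  have hb : b = 0 := by linear_combination h1 - hc
  have ha : a = 0 := by linear_combination h2 - γ ^ 2 * hc
  exact ⟨ha, hb, hc⟩

theorem gram_indep : LinearIndependent F ![u, v, w] := by
  rw [Fintype.linearIndependent_iff]
  intro k hk
  rw [Fin.sum_univ_three] at hk
  have hk' : k 0 • u + k 1 • v + k 2 • w = 0 := hk
  have hz : ∀ z, h (k 0 • u + k 1 • v + k 2 • w) z = 0 := by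
    intro z
    rw [hk', Cfsg.Agent.S0480U.Herm.zero_left H]
  obtain ⟨h1, h2, h3⟩ := gram_zero hF H g (hz u) (hz v) (hz w)
  intro i
  fin_cases i
  · exact h1
  · exact h2
  · exact h3

end Linear

/-! ### The opposite plane, for the standard form in dimension 6 -/

section Std

variable {F : Type} [Field F] [Fintype F] (hF : Fintype.card F = 4)
  (H : HermSp F (Fin 6 → F) (hermForm 6 F 2)) {γ : F} {u v w : Fin 6 → F}
  (g : Gram (hermForm 6 F 2) γ u v w)

include hF H g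

/-- **The opposite triple.** -/
theorem exists_opposite : ∃ u' v' w' : Fin 6 → F, Gram (hermForm 6 F 2) γ u' v' w' ∧
    (∀ z ∈ [u, v, w], ∀ z' ∈ [u', v', w'], hermForm 6 F 2 z z' = 0) ∧
    ∀ z, KL H u v w (KL H u' v' w' z) = γ • z := by
  have hF' : Fintype.card F = 2 ^ 2 := by rw [hF]; norm_num
  set W : Submodule F (Fin 6 → F) := Submodule.span F (Set.range ![u, v, w]) with hWdef
  have hspan : ∀ z ∈ W, ∃ a b c : F, z = a • u + b • v + c • w := by
    intro z hz
    rw [hWdef, Submodule.mem_span_range_iff_exists_fun] at hz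
    obtain ⟨k, hk⟩ := hz
    rw [Fin.sum_univ_three] at hk
    exact ⟨k 0, k 1, k 2, hk.symm⟩
  have huW : u ∈ W := Submodule.subset_span ⟨0, rfl⟩
  have hvW : v ∈ W := Submodule.subset_span ⟨1, rfl⟩
  have hwW : w ∈ W := Submodule.subset_span ⟨2, rfl⟩
  have hW : ∀ z ∈ W, (∀ z' ∈ W, hermForm 6 F 2 z z' = 0) → z = 0 := by
    intro z hz hall
    obtain ⟨a, b, c, rfl⟩ := hspan z hz
    obtain ⟨rfl, rfl, rfl⟩ := gram_zero hF H g (hall u huW) (hall v hvW) (hall w hwW)
    simp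
  have hrk : Module.finrank F W = 3 := by
    rw [hWdef, finrank_span_eq_card (gram_indep hF H g)]; rfl
  obtain ⟨b, hbW, hb⟩ := exists_orthonormal hF' W hW hrk
  have hW' := hermPerp_nondeg hF' W hW
  have hrk' : Module.finrank F (hermPerp 2 (W : Set (Fin 6 → F)) : Submodule F (Fin 6 → F)) =
      3 := by
    have := finrank_hermPerp_of_nondeg hF' W hW
    rw [hrk] at this
    omega
  obtain ⟨b', hbW', hb'⟩ := exists_orthonormal hF' _ hW' hrk'
  -- the isometry
  let θ : (Fin 6 → F) → (Fin 6 → F) := fun z => ∑ i, hermForm 6 F 2 z (b i) • b' i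
  have hθ : ∀ z ∈ W, ∀ z' ∈ W, hermForm 6 F 2 (θ z) (θ z') = hermForm 6 F 2 z z' := by
    intro z hz z' hz'
    have hk : Module.finrank F W = Fintype.card (Fin 3) := by rw [hrk]; rfl
    have e1 := eq_sum_of_orthonormal W hk hbW hb hz
    have e2 : hermForm 6 F 2 z z' =
        ∑ i, hermForm 6 F 2 z (b i) * (hermForm 6 F 2 z' (b i)) ^ 2 := by
      conv_lhs => rw [e1]
      rw [herm_sum_left]
      refine Finset.sum_congr rfl fun i _ => ?_
      rw [herm_smul_left, herm_swap hF' z' (b i)]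
    rw [e2]
    show hermForm 6 F 2 (∑ i, hermForm 6 F 2 z (b i) • b' i)
      (∑ i, hermForm 6 F 2 z' (b i) • b' i) = _
    rw [herm_sum_left]
    refine Finset.sum_congr rfl fun i _ => ?_
    rw [herm_sum_right hF', Finset.sum_eq_single i]
    · rw [herm_smul_left, herm_smul_right, hb', if_pos rfl, mul_one]
    · intro j _ hj
      rw [herm_smul_left, herm_smul_right, hb', if_neg hj.symm, mul_zero, mul_zero]
    · intro hi
      exact absurd (Finset.mem_univ i) hi
  have hθW : ∀ z, θ z ∈ (hermPerp 2 (W : Set (Fin 6 → F)) : Submodule F (Fin 6 → F)) := by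
    intro z
    exact Submodule.sum_mem _ fun i _ => Submodule.smul_mem _ _ (hbW' i)
  have g' : Gram (hermForm 6 F 2) γ (θ u) (θ v) (θ w) :=
    ⟨by rw [hθ u huW u huW, g.uu], by rw [hθ v hvW v hvW, g.vv], by rw [hθ w hwW w hwW, g.ww],
      by rw [hθ u huW v hvW, g.uv], by rw [hθ u huW w hwW, g.uw], by rw [hθ v hvW w hwW, g.vw],
      by rw [hθ v hvW u huW, g.vu], by rw [hθ w hwW u huW, g.wu], by rw [hθ w hwW v hvW, g.wv],
      g.gam⟩
  have hperp : ∀ z ∈ W, ∀ z', hermForm 6 F 2 z (θ z') = 0 := by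
    intro z hz z'
    exact herm_eq_zero_swap hF' (hθW z' z hz)
  have hperp' : ∀ z ∈ (hermPerp 2 (W : Set (Fin 6 → F)) : Submodule F (Fin 6 → F)), ∀ z' ∈ W,
      hermForm 6 F 2 z z' = 0 := fun z hz z' hz' => hz z' hz'
  refine ⟨θ u, θ v, θ w, g', ?_, ?_⟩
  · intro z hz z' hz'
    have hzW : z ∈ W := by
      simp only [List.mem_cons, List.not_mem_nil, or_false] at hz
      rcases hz with rfl | rfl | rfl
      · exact huW
      · exact hvW
      · exact hwW
    simp only [List.mem_cons, List.not_mem_nil, or_false] at hz'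
    rcases hz' with rfl | rfl | rfl <;> exact hperp z hzW _
  · -- span of the images is the perp
    have hspan' : ∀ z ∈ (hermPerp 2 (W : Set (Fin 6 → F)) : Submodule F (Fin 6 → F)),
        ∃ a b c : F, z = a • θ u + b • θ v + c • θ w := by
      have hle : Submodule.span F (Set.range ![θ u, θ v, θ w]) ≤
          (hermPerp 2 (W : Set (Fin 6 → F)) : Submodule F (Fin 6 → F)) := by
        rw [Submodule.span_le]
        rintro _ ⟨i, rfl⟩
        fin_cases i
        · exact hθW u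
        · exact hθW v
        · exact hθW w
      have heq : Submodule.span F (Set.range ![θ u, θ v, θ w]) =
          (hermPerp 2 (W : Set (Fin 6 → F)) : Submodule F (Fin 6 → F)) := by
        apply Submodule.eq_of_le_of_finrank_eq hle
        rw [hrk', finrank_span_eq_card (gram_indep hF H g')]; rfl
      intro z hz
      rw [← heq, Submodule.mem_span_range_iff_exists_fun] at hz
      obtain ⟨k, hk⟩ := hz
      rw [Fin.sum_univ_three] at hk
      exact ⟨k 0, k 1, k 2, hk.symm⟩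
    intro z
    obtain ⟨z1, hz1, z2, hz2, rfl⟩ := exists_add_perp hF' W hW z
    have k1 : KL H (θ u) (θ v) (θ w) z1 = z1 :=
      KL_perp H (hperp z1 hz1 u) (hperp z1 hz1 v) (hperp z1 hz1 w)
    have k2 : KL H (θ u) (θ v) (θ w) z2 = γ • z2 := by
      obtain ⟨a, b, c, rfl⟩ := hspan' z2 hz2
      exact KL_comb hF H g' a b c
    have k3 : KL H u v w z1 = γ • z1 := by
      obtain ⟨a, b, c, rfl⟩ := hspan z1 hz1
      exact KL_comb hF H g a b c
    have k4 : KL H u v w z2 = z2 :=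
      KL_perp H (hperp' z2 hz2 u huW) (hperp' z2 hz2 v hvW) (hperp' z2 hz2 w hwW)
    rw [map_add, map_add, k1, k2, k3, map_smul, k4, smul_add]

end Std


/-! ### The group side -/

section Grp

variable {G : Type*} [Group G] {F V : Type*} [Field F] [Fintype F] [AddCommGroup V] [Module F V]
  {h : V → V → F} {n : ℕ} {E : Set G} {f : G → V}

/-- `g` acts on the points as the linear map `A` -/
def Rel (E : Set G) (f : G → V) (g : G) (A : V →ₗ[F] V) : Prop :=
  ∀ t ∈ E, cj g t ∈ E ∧ ∃ k : F, k ≠ 0 ∧ f (cj g t) = k • A (f t)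

theorem Rel.mul {g g' : G} {A A' : V →ₗ[F] V} (h1 : Rel E f g A) (h2 : Rel E f g' A') :
    Rel E f (g * g') (A ∘ₗ A') := by
  intro t ht
  obtain ⟨m1, k1, hk1, e1⟩ := h2 t ht
  obtain ⟨m2, k2, hk2, e2⟩ := h1 _ m1
  rw [cj_mul]
  refine ⟨m2, k2 * k1, mul_ne_zero hk2 hk1, ?_⟩
  rw [e2, e1, map_smul, smul_smul, LinearMap.comp_apply]

theorem rel_mem {D : Set G} (U : UM h n E f) (FD : FData D) (hED : E ⊆ D)
    (hcl : ∀ a ∈ E, ∀ b ∈ E, cj a b ∈ E) (hn : 4 ≤ n) {s : G} (hs : s ∈ E) {v : V}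
    (hv : ∃ c : F, c ≠ 0 ∧ v = c • f s) : Rel E f s (TL U.herm v) := by
  obtain ⟨c, hc, rfl⟩ := hv
  intro t ht
  refine ⟨hcl s hs t ht, ?_⟩
  obtain ⟨k, hk, e⟩ := f_cj U FD hED hcl hn hs ht
  refine ⟨k, hk, ?_⟩
  rw [e, TL_smul U.card U.herm hc, TL_apply]

theorem rel_cc {D : Set G} (U : UM h n E f) (FD : FData D) (hED : E ⊆ D)
    (hcl : ∀ a ∈ E, ∀ b ∈ E, cj a b ∈ E) (hn : 4 ≤ n) {x a b : G} (hx : x ∈ E) (ha : a ∈ E)
    (hb : b ∈ E) {u v w : V} (hu : ∃ c : F, c ≠ 0 ∧ u = c • f x)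
    (hv : ∃ c : F, c ≠ 0 ∧ v = c • f a) (hw : ∃ c : F, c ≠ 0 ∧ w = c • f b) :
    Rel E f (Aff.cc x a b) (KL U.herm u v w) := by
  have r1 := rel_mem U FD hED hcl hn hx hu
  have r2 := rel_mem U FD hED hcl hn ha hv
  have r3 := rel_mem U FD hED hcl hn hb hw
  have e : Aff.cc x a b = ((x * b) * (x * a)) * ((b * x) * (a * x)) := by
    rw [Aff.cc, mul_inv_rev, mul_inv_rev, FD.inv_eq (hED hx), FD.inv_eq (hED ha),
      FD.inv_eq (hED hb)]
    group
  rw [e]
  exact ((r1.mul r3).mul (r1.mul r2)).mul ((r3.mul r1).mul (r2.mul r1))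

theorem exists_scale (hF : Fintype.card F = 4) (H : HermSp F V h) {y z : V} (hyz : h y z ≠ 0) :
    ∃ c : F, c ≠ 0 ∧ h y (c • z) = 1 := by
  refine ⟨h y z, hyz, ?_⟩
  rw [H.smul_right]
  have := Cfsg.Agent.S0480U.Herm.pow_three hF hyz
  linear_combination this

theorem cube_root {γ : F} (hF : Fintype.card F = 4) (h0 : γ ≠ 0) (h1 : γ ≠ 1) :
    γ ^ 2 + γ + 1 = 0 := by
  have h3 := Cfsg.Agent.S0480U.Herm.pow_three hF h0
  have h4 : (γ - 1) * (γ ^ 2 + γ + 1) = 0 := by linear_combination h3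
  rcases mul_eq_zero.1 h4 with h5 | h5
  · exact absurd (sub_eq_zero.1 h5) h1
  · exact h5

/-- the vectors of an affine triple -/
theorem exists_gram {D : Set G} (U : UM h n E f) (FD : FData D) (hED : E ⊆ D)
    (hcl : ∀ a ∈ E, ∀ b ∈ E, cj a b ∈ E) (hn : 4 ≤ n) {x a b : G} (A : Aff E x a b) :
    ∃ (γ : F) (u v w : V), Gram h γ u v w ∧ (∃ c : F, c ≠ 0 ∧ u = c • f x) ∧
      (∃ c : F, c ≠ 0 ∧ v = c • f a) ∧ (∃ c : F, c ≠ 0 ∧ w = c • f b) := by
  have H := U.herm
  have hF := U.card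
  have h1 : h (f x) (f a) ≠ 0 := fun h1 => A.xa ((U.comm x A.hx a A.ha).2 h1)
  have h2 : h (f x) (f b) ≠ 0 := fun h1 => A.xb ((U.comm x A.hx b A.hb).2 h1)
  have h3 : h (f a) (f b) ≠ 0 := fun h1 => A.ab ((U.comm a A.ha b A.hb).2 h1)
  obtain ⟨c1, hc1, e1⟩ := exists_scale hF H h1
  obtain ⟨c2, hc2, e2⟩ := exists_scale hF H h2
  obtain ⟨k, hk, hk2⟩ := f_cj U FD hED hcl hn A.ha A.hb
  have h4 : h (f x) (f (cj a b)) ≠ 0 :=
    fun h1 => A.xab ((U.comm x A.hx _ (hcl a A.ha b A.hb)).2 h1)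
  have p1 := Cfsg.Agent.S0480U.Herm.pow_three hF hc1
  have p2 := Cfsg.Agent.S0480U.Herm.pow_three hF hc2
  set γ : F := h (c1 • f a) (c2 • f b) with hγ
  have hγ' : γ = c1 * (c2 ^ 2 * h (f a) (f b)) := by
    rw [hγ, H.smul_left, H.smul_right]
  have hγ0 : γ ≠ 0 := by
    rw [hγ']
    exact mul_ne_zero hc1 (mul_ne_zero (pow_ne_zero 2 hc2) h3)
  have hswap : h (f b) (f a) = (h (f a) (f b)) ^ 2 := H.swap _ _
  have hγ1 : γ ≠ 1 := by
    intro hγ1
    apply h4
    rw [hk2, H.smul_right, Cfsg.Agent.S0480U.Herm.add_right hF H, H.smul_right, hswap]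
    rw [H.smul_right] at e1 e2
    have hα : h (f x) (f a) = c1 := by
      linear_combination c1 * e1 - h (f x) (f a) * p1
    have hβ : h (f x) (f b) = c2 := by
      linear_combination c2 * e2 - h (f x) (f b) * p2
    rw [hα, hβ]
    -- `h a b = c1⁻¹ c2`
    have hab : h (f a) (f b) = c1 ^ 2 * c2 := by
      have e3 : c1 * (c2 ^ 2 * h (f a) (f b)) = 1 := by rw [← hγ']; exact hγ1
      linear_combination (c1 ^ 2 * c2) * e3 - (h (f a) (f b)) * c2 ^ 3 * p1
        - (h (f a) (f b)) * p2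
    rw [hab]
    have h2' := Cfsg.Agent.S0480U.Herm.two_eq hF
    have e4 : ((c1 ^ 2 * c2) ^ 2) ^ 2 * c1 = c2 := by
      have p1' : c1 ^ 9 = 1 := by
        linear_combination (c1 ^ 6 + c1 ^ 3 + 1) * p1
      linear_combination c2 ^ 4 * p1' + c2 * p2
    rw [e4]
    linear_combination k ^ 2 * c2 * h2'
  refine ⟨γ, f x, c1 • f a, c2 • f b, ?_, ⟨1, one_ne_zero, (one_smul _ _).symm⟩,
    ⟨c1, hc1, rfl⟩, ⟨c2, hc2, rfl⟩⟩
  exact
    { uu := U.iso x A.hx
      vv := by rw [H.smul_left, H.smul_right, U.iso a A.ha, mul_zero, mul_zero]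
      ww := by rw [H.smul_left, H.smul_right, U.iso b A.hb, mul_zero, mul_zero]
      uv := e1
      uw := e2
      vw := rfl
      vu := by rw [H.swap, e1, one_pow]
      wu := by rw [H.swap, e2, one_pow]
      wv := by rw [H.swap]
      gam := cube_root hF hγ0 hγ1 }

end Grp

section Opp

variable {G : Type*} [Group G] {E : Set G}

/-- **The opposite plane.** -/
theorem opposite {D : Set G} (hU : IsU 6 E) (FD : FData D) (hED : E ⊆ D)
    (hcl : ∀ a ∈ E, ∀ b ∈ E, cj a b ∈ E) {x a b : G} (A : Aff E x a b) :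
    ∃ x' ∈ E, ∃ a' ∈ E, ∃ b' ∈ E, (∀ z ∈ [x, a, b], ∀ z' ∈ [x', a', b'], Commute z z') ∧
      ∀ t ∈ E, Commute (Aff.cc x a b * Aff.cc x' a' b') t := by
  obtain ⟨F, i1, i2, f, U⟩ := exists_um hU
  have hF := U.card
  have H := U.herm
  obtain ⟨γ, u, v, w, g, hu, hv, hw⟩ := exists_gram U FD hED hcl (by norm_num) A
  obtain ⟨u', v', w', g', hperp, hKL⟩ := exists_opposite hF H g
  have hu'0 : u' ≠ 0 := by
    rintro rfl
    have := g'.uv
    rw [Cfsg.Agent.S0480U.Herm.zero_left H] at this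
    exact zero_ne_one this
  have hv'0 : v' ≠ 0 := by
    rintro rfl
    have := g'.vu
    rw [Cfsg.Agent.S0480U.Herm.zero_left H] at this
    exact zero_ne_one this
  have hw'0 : w' ≠ 0 := by
    rintro rfl
    have := g'.wu
    rw [Cfsg.Agent.S0480U.Herm.zero_left H] at this
    exact zero_ne_one this
  obtain ⟨x', hx', c1, hc1, e1⟩ := exists_pt U hu'0 g'.uu
  obtain ⟨a', ha', c2, hc2, e2⟩ := exists_pt U hv'0 g'.vv
  obtain ⟨b', hb', c3, hc3, e3⟩ := exists_pt U hw'0 g'.ww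
  have inv : ∀ {c : F} {y : G} {z : Fin 6 → F}, c ≠ 0 → f y = c • z →
      ∃ k : F, k ≠ 0 ∧ z = k • f y := by
    intro c y z hc e
    exact ⟨c⁻¹, inv_ne_zero hc, by rw [e, smul_smul, inv_mul_cancel₀ hc, one_smul]⟩
  refine ⟨x', hx', a', ha', b', hb', ?_, ?_⟩
  · -- commuting
    have key : ∀ {z z' : G} {s s' : Fin 6 → F}, z ∈ E → z' ∈ E → (∃ c : F, c ≠ 0 ∧ s = c • f z) →
        (∃ c : F, f z' = c • s') → hermForm 6 F 2 s s' = 0 → Commute z z' := by
      intro z z' s s' hz hz' hs hs' h0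
      obtain ⟨c, hc, rfl⟩ := hs
      obtain ⟨c', hc'⟩ := hs'
      rw [U.comm z hz z' hz', hc', H.smul_right]
      rw [H.smul_left, mul_eq_zero] at h0
      rw [h0.resolve_left hc, mul_zero]
    intro z hz z' hz'
    simp only [List.mem_cons, List.not_mem_nil, or_false] at hz hz'
    rcases hz with rfl | rfl | rfl <;> rcases hz' with rfl | rfl | rfl
    · exact key A.hx hx' hu ⟨c1, e1⟩ (hperp _ (by simp) _ (by simp))
    · exact key A.hx ha' hu ⟨c2, e2⟩ (hperp _ (by simp) _ (by simp))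
    · exact key A.hx hb' hu ⟨c3, e3⟩ (hperp _ (by simp) _ (by simp))
    · exact key A.ha hx' hv ⟨c1, e1⟩ (hperp _ (by simp) _ (by simp))
    · exact key A.ha ha' hv ⟨c2, e2⟩ (hperp _ (by simp) _ (by simp))
    · exact key A.ha hb' hv ⟨c3, e3⟩ (hperp _ (by simp) _ (by simp))
    · exact key A.hb hx' hw ⟨c1, e1⟩ (hperp _ (by simp) _ (by simp))
    · exact key A.hb ha' hw ⟨c2, e2⟩ (hperp _ (by simp) _ (by simp))
    · exact key A.hb hb' hw ⟨c3, e3⟩ (hperp _ (by simp) _ (by simp))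
  · intro t ht
    have r1 := rel_cc U FD hED hcl (by norm_num) A.hx A.ha A.hb hu hv hw
    have r2 := rel_cc U FD hED hcl (by norm_num) hx' ha' hb' (inv hc1 e1) (inv hc2 e2)
      (inv hc3 e3)
    obtain ⟨m, k, hk, e⟩ := (r1.mul r2) t ht
    rw [LinearMap.comp_apply, hKL, smul_smul] at e
    exact cj_eq_self_iff.1 (U.inj _ m _ ht _ e)

end Opp

end Cfsg.Agent.TSp.UPlane
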