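import Mathlib
import Cfsg.Agent.TSp.UPlane
import Cfsg.Agent.TSp.Perp
import Cfsg.Agent.TSp.LTrans

set_option autoImplicit false

/-!
# The centralizer of a transposition is generated by transpositions: types `T6`, `T7`
-/

namespace Cfsg.Agent.TSp.CL

open Cfsg Cfsg.Agent.SporadicStructure.FischerSpace Cfsg.Agent.ThreeTransPolar.Basic
open Cfsg.Agent.Fischer160.Inherit hiding Dx
open Cfsg.Agent.Fischer480.Defs hiding FGroup
open Cfsg.Agent.TSp.Basic hiding FGroup
open Cfsg.Agent.TSp.SimpleConn Cfsg.Agent.TSp.Plane Cfsg.Agent.TSp.Count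
open Cfsg.Agent.TSp.Perp Cfsg.Agent.TSp.UPlane Cfsg.Agent.TSp.LTrans Cfsg.Agent.TSp.UCount
open Cfsg.Agent.S0480U.UModel Cfsg.Agent.Fischer920.PsuEnd Cfsg.Agent.S0480U.Herm

universe u

section Theta

variable {G : Type u} [Group G]

/-- the line property of type `U(n)` -/
theorem um_hyp {F V : Type*} [Field F] [Fintype F] [AddCommGroup V] [Module F V]
    {h : V → V → F} {n : ℕ} {E : Set G} {f : G → V} {D : Set G} (U : UM h n E f) (FD : FData D)
    (hED : E ⊆ D) (hcl : ∀ a ∈ E, ∀ b ∈ E, cj a b ∈ E) (hn : 4 ≤ n) {a b c : G}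
    (ha : a ∈ E) (hb : b ∈ E) (hab : ¬ Commute a b) (hc : c ∈ E)
    (hall : ∀ z ∈ E, Commute z a → Commute z b → Commute z c) :
    c = a ∨ c = b ∨ c = cj a b := by
  have H := U.herm
  have hfin := U.fin
  have hab' : h (f a) (f b) ≠ 0 := fun h1 => hab ((U.comm a ha b hb).2 h1)
  have hba : h (f b) (f a) ≠ 0 := fun h1 => hab' (swap_zero H h1)
  obtain ⟨α, β, hαβ⟩ : ∃ α β : F, f c = α • f a + β • f b := by
    by_contra hcon
    push Not at hcon
    obtain ⟨v, hvv, hav, hbv, huv⟩ := exists_sep_hyp U.card H (by rw [U.dim]; exact hn)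
      (U.iso a ha) (U.iso b hb) hab' hcon
    have hv0 : v ≠ 0 := by
      rintro rfl
      exact huv (zero_right H _)
    obtain ⟨d, hd, k, hk0, hfd⟩ := exists_pt U hv0 hvv
    have hda : Commute d a := by
      rw [U.comm d hd a ha, hfd, H.smul_left, swap_zero H hav, mul_zero]
    have hdb : Commute d b := by
      rw [U.comm d hd b hb, hfd, H.smul_left, swap_zero H hbv, mul_zero]
    have hdc := (U.comm d hd c hc).1 (hall d hd hda hdb)
    rw [hfd, H.smul_left] at hdc
    rcases mul_eq_zero.1 hdc with h2 | h2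
    · exact hk0 h2
    · exact huv (swap_zero H h2)
  by_cases hα : α = 0
  · right; left
    rw [hα, zero_smul, zero_add] at hαβ
    exact U.inj c hc b hb β hαβ
  by_cases hβ : β = 0
  · left
    rw [hβ, zero_smul, add_zero] at hαβ
    exact U.inj c hc a ha α hαβ
  right; right
  have h0 := U.iso c hc
  rw [hαβ, H.add_left, H.smul_left, H.smul_left, add_right U.card H, add_right U.card H,
    H.smul_right, H.smul_right, H.smul_right, H.smul_right, U.iso a ha, U.iso b hb] at h0
  have hsw := H.swap (f b) (f a)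
  rw [hsw] at h0
  have h1 : α * β * h (f b) (f a) * (β * h (f b) (f a) + α) = 0 := by
    linear_combination h0
  have h2 : β * h (f b) (f a) + α = 0 := by
    rcases mul_eq_zero.1 h1 with h3 | h3
    · exact absurd h3 (mul_ne_zero (mul_ne_zero hα hβ) hba)
    · exact h3
  have h3 : α = β * h (f b) (f a) := by
    have := add_self U.card (β * h (f b) (f a))
    linear_combination h2 - this
  obtain ⟨k, hk, e⟩ := f_cj U FD hED hcl hn ha hb
  refine U.inj c hc _ (hcl a ha b hb) (β * k⁻¹) ?_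
  rw [e, hαβ, h3, smul_smul, mul_assoc, inv_mul_cancel₀ hk, mul_one, smul_add, mul_smul, add_comm]

theorem theta_U {E D : Set G} (hU : IsU 6 E) (FD : FData D) (hED : E ⊆ D)
    (hcl : ∀ a ∈ E, ∀ b ∈ E, cj a b ∈ E) : Theta E := by
  obtain ⟨F, i1, i2, f, U⟩ := exists_um hU
  intro x hx a ha b hb hxa hxb hall
  rcases um_hyp U FD hED hcl (by norm_num) hx ha hxa hb (fun z hz h1 h2 =>
    (hall z hz h1).1 h2) with h | h | h
  · rw [h] at hxb
    exact absurd (Commute.refl x) hxb
  · exact Or.inl h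
  · exact Or.inr h

/-- inheritance of `θ'` from local spaces -/
theorem theta_of_loc {E : Set G} (hne : ∀ x ∈ E, ∀ a ∈ E, ¬ Commute x a → (Com E x a).Nonempty)
    (hloc : ∀ y ∈ E, Theta (Loc E y)) : Theta E := by
  intro x hx a ha b hb hxa hxb hall
  obtain ⟨y, hy, hxy, hay⟩ := hne x hx a ha hxa
  have hyb : Commute y b := (hall y hy hxy.symm).1 hay.symm
  have hxy' : x ≠ y := by rintro rfl; exact hxa hay.symm
  have hay' : a ≠ y := by rintro rfl; exact hxa hxy
  have hby' : b ≠ y := by rintro rfl; exact hxb hxy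
  exact hloc y hy x ⟨hx, hxy', hxy.symm⟩ a ⟨ha, hay', hay.symm⟩ b ⟨hb, hby', hyb⟩ hxa hxb
    (fun d hd hdx => hall d hd.1 hdx)

theorem loc_closed {D : Set G} (hD : TSet D) (x : G) : TSet (Loc D x) := dx_closed hD x

theorem com_nonempty {E : Set G} {x a : G} {n : ℕ} (hn : n ≠ 0)
    (h : (Com E x a).ncard = n) : (Com E x a).Nonempty := by
  rw [Set.nonempty_iff_ne_empty]
  intro h1
  rw [h1, Set.ncard_empty] at h
  exact hn h.symm

theorem theta_N6 {E D : Set G} (FD : FData D) (hED : E ⊆ D) (hE : TSet E) (h : N6 E) :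
    Theta E :=
  theta_of_loc (fun x hx a ha hxa => com_nonempty (by norm_num) (h.com x hx a ha hxa))
    (fun y hy => theta_U (h.loc y hy) FD (fun z hz => hED hz.1)
      (fun a ha b hb => (loc_closed hE y).closed a ha b hb))

theorem theta_N7 {E D : Set G} (FD : FData D) (hED : E ⊆ D) (hE : TSet E) (h : N7 E) :
    Theta E :=
  theta_of_loc (fun x hx a ha hxa => com_nonempty (by norm_num) (h.com x hx a ha hxa))
    (fun y hy => theta_N6 FD (fun z hz => hED hz.1) (loc_closed hE y) (h.loc y hy))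

end Theta

section CL6

variable {G : Type u} [Group G] {D : Set G}

/-- centralizers of members of `D` are generated by members of `D` -/
def CLD (D : Set G) : Prop := ∀ x ∈ D, ∀ g : G, Commute g x → g ∈ LL D x

/-- general form: enough to have the elements `tri` -/
theorem cl_of_tri [Finite G] (F : FGroup D)
    (htri : ∀ x a b, Aff D x a b → tri x a b ∈ LL D x) : CLD D := by
  have R := rk_of_FGroup F
  have hT := tset_of_fdata R.fd
  have hset : Setup D D := ⟨hT, subset_rfl, fun s hs a ha => hT.closed s hs a ha, by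
    intro x hx y hy hxy
    obtain ⟨u, hu, h1, h2⟩ := R.both x hx y hy hxy
    exact ⟨u, hu, h1, h2⟩⟩
  intro x hx g hgx
  have h1 : g ∈ MM D D x := mem_MM_of_commute_of_mem hset hx (by rw [R.fd.gen]; trivial) hgx
  have hle : MM D D x ≤ LL D x := by
    rw [MM, Subgroup.closure_le]
    rintro y (⟨hy, hc⟩ | ⟨a, ha, b, hb, h2, h3, h4, h5, rfl⟩)
    · exact mem_LL hy hc
    · exact htri x a b ⟨hx, ha, hb, h2, h3, h4, h5⟩
  exact hle h1

theorem cl_six [Finite G] (F : FGroup D) (h : N6 D) : CLD D := by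
  have R := rk_of_FGroup F
  have hT := tset_of_fdata R.fd
  have hθ := theta_N6 R.fd subset_rfl hT h
  refine cl_of_tri F ?_
  intro x a b A
  obtain ⟨p, hp, p0, p1, p2, -⟩ := exists_pl hT A
  have hperp := six_perp hT h p hp
  obtain ⟨y, hy, hyp⟩ : (perp D p).Nonempty := by
    rw [Set.nonempty_iff_ne_empty]
    intro h1
    rw [h1, Set.ncard_empty] at hperp
    norm_num at hperp
  have hyx : Commute y x := by rw [← p0]; exact hyp _
  have hya : Commute y a := by rw [← p1]; exact hyp _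
  have hyb : Commute y b := by rw [← p2]; exact hyp _
  have hx' : x ∈ Loc D y := ⟨A.hx, by rintro rfl; exact A.xa hya, hyx⟩
  have ha' : a ∈ Loc D y := ⟨A.ha, by rintro rfl; exact A.ab hyb, hya⟩
  have hb' : b ∈ Loc D y := ⟨A.hb, by rintro rfl; exact A.ab hya.symm, hyb⟩
  have A' : Aff (Loc D y) x a b := ⟨hx', ha', hb', A.xa, A.xb, A.ab, A.xab⟩
  obtain ⟨x1, hx1, a1, ha1, b1, hb1, hcomm, hall⟩ := opposite (h.loc y hy) R.fd
    (fun z hz => hz.1) (fun a ha b hb => (loc_closed hT y).closed a ha b hb) A'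
  have hcc : ∀ {x a b : G}, Commute x y → Commute a y → Commute b y →
      Commute (Aff.cc x a b) y := by
    intro x a b h1 h2 h3
    have e1 := h1.mul_left h3
    have e2 := h1.mul_left h2
    exact ((e1.mul_left e2).mul_left e1.inv_left).mul_left e2.inv_left
  have hker := kernel F hθ hy (c := Aff.cc x a b * Aff.cc x1 a1 b1)
    ((hcc hyx.symm hya.symm hyb.symm).mul_left
      (hcc hx1.2.2.symm ha1.2.2.symm hb1.2.2.symm)) hall
  have hgL : Aff.cc x a b * Aff.cc x1 a1 b1 ∈ LL D x := by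
    rcases hker with h1 | h1
    · rw [h1]; exact one_mem _
    · rw [h1]; exact mem_LL hy hyx
  have m1 : x1 ∈ LL D x := mem_LL hx1.1 (hcomm x (by simp) x1 (by simp)).symm
  have m2 : a1 ∈ LL D x := mem_LL ha1.1 (hcomm x (by simp) a1 (by simp)).symm
  have m3 : b1 ∈ LL D x := mem_LL hb1.1 (hcomm x (by simp) b1 (by simp)).symm
  have hcc1 : Aff.cc x1 a1 b1 ∈ LL D x := by
    have e1 := mul_mem m1 m3
    have e2 := mul_mem m1 m2
    exact mul_mem (mul_mem (mul_mem e1 e2) (inv_mem e1)) (inv_mem e2)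
  have hfin : Aff.cc x a b ∈ LL D x := by
    have := mul_mem hgL (inv_mem hcc1)
    rwa [mul_inv_cancel_right] at this
  rw [A.tri_eq hT]
  exact mul_mem hfin (mem_LL A.hx (Commute.refl x))

end CL6

end Cfsg.Agent.TSp.CL
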