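import Mathlib
import Cfsg.Agent.TSp.CL
import Cfsg.Agent.Fischer480.Transport
import Cfsg.Agent.S1615
import Cfsg.Agent.S0280

set_option autoImplicit false

/-!
# The orders of the 3-transposition groups of types `T6` and `T7`
-/

namespace Cfsg.Agent.TSp.Orders

open Cfsg Cfsg.Agent.SporadicStructure.FischerSpace Cfsg.Agent.ThreeTransPolar.Basic
open Cfsg.Agent.ThreeTransPolar.Lines
open Cfsg.Agent.Fischer160.Inherit hiding Dx
open Cfsg.Agent.Fischer480.Defs hiding FGroup
open Cfsg.Agent.TSp.Basic hiding FGroup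
open Cfsg.Agent.TSp.SimpleConn Cfsg.Agent.TSp.Plane Cfsg.Agent.TSp.Count
open Cfsg.Agent.TSp.Perp Cfsg.Agent.TSp.UPlane Cfsg.Agent.TSp.LTrans Cfsg.Agent.TSp.UCount
open Cfsg.Agent.TSp.CL
open Cfsg.Agent.S0480U.UModel Cfsg.Agent.Fischer920.PsuEnd Cfsg.Agent.S0480U.Herm

universe u

variable {G : Type u} [Group G] {D : Set G}

/-! ### Transport -/

theorem n6_transport {K : Type u} [Group K] {E : Set G} {E' : Set K} (h : CIso E E')
    (h' : N6 E) : N6 E' := by
  have h0 := Fischer480.Transport.ncard_eq h
  obtain ⟨φ, hφ, hc⟩ := Fischer480.Transport.CIso.symm h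
  refine ⟨h0.symm.trans h'.card, ?_, ?_⟩
  · intro x hx
    exact Fischer480.Transport.isU (Fischer480.Transport.loc_cIso hφ hc hx)
      (h'.loc _ (hφ.mapsTo hx))
  · intro x hx a ha hxa
    rw [Fischer480.Transport.ncard_eq (Fischer480.Transport.com_cIso hφ hc hx ha)]
    exact h'.com _ (hφ.mapsTo hx) _ (hφ.mapsTo ha) (fun h1 => hxa ((hc x hx a ha).2 h1))

/-! ### Commuting lines have two points -/

/-- no perp is contained in another one -/
def PerpSub (E : Set G) : Prop := ∀ y ∈ E, ∀ z ∈ E, (∀ d ∈ E, Commute d y → Commute d z) → z = y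

theorem perpSub_U {E : Set G} (hU : IsU 6 E) : PerpSub E := by
  obtain ⟨F, i1, i2, f, U⟩ := exists_um hU
  have H := U.herm
  have hfin := U.fin
  intro y hy z hz hall
  by_contra hne
  have hyz : Commute y z := hall y hy (Commute.refl y)
  have hnot : f z ∉ Submodule.span F ({f y} : Set (Fin 6 → F)) := by
    intro h1
    rw [Submodule.mem_span_singleton] at h1
    obtain ⟨c, hc⟩ := h1
    exact hne (U.inj z hz y hy c hc.symm)
  obtain ⟨v, hvv, hv1, hv2⟩ := exists_sep_iso U.card H hnot (U.iso z hz) (by
    intro s hs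
    rw [Submodule.mem_span_singleton] at hs
    obtain ⟨c, rfl⟩ := hs
    rw [H.smul_left, (U.comm y hy z hz).1 hyz, mul_zero])
  have hv0 : v ≠ 0 := by
    rintro rfl
    rw [zero_right H] at hv2
    exact zero_ne_one hv2
  obtain ⟨d, hd, k, hk, hfd⟩ := exists_pt U hv0 hvv
  have hdy : Commute d y := by
    rw [U.comm d hd y hy, hfd, H.smul_left,
      swap_zero H (hv1 (f y) (Submodule.mem_span_singleton_self _)), mul_zero]
  have hdz := (U.comm d hd z hz).1 (hall d hd hdy)
  rw [hfd, H.smul_left] at hdz
  rcases mul_eq_zero.1 hdz with h1 | h1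
  · exact hk h1
  · rw [swap_zero H h1] at hv2
    exact zero_ne_one hv2

/-- `PerpSub` when the local spaces are not commutative -/
theorem perpSub_of_loc {E : Set G}
    (hloc : ∀ y ∈ E, ∀ z ∈ Loc E y, ∃ w ∈ Loc E y, ¬ Commute w z) : PerpSub E := by
  intro y hy z hz hall
  by_contra hne
  have hyz : Commute y z := hall y hy (Commute.refl y)
  obtain ⟨w, hw, hwz⟩ := hloc y hy z ⟨hz, hne, hyz⟩
  exact hwz (hall w hw.1 hw.2.2.symm)

theorem perpSub_N6 {E : Set G} (h : N6 E) : PerpSub E := by
  apply perpSub_of_loc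
  intro y hy z hz
  obtain ⟨F, i1, i2, f, U⟩ := exists_um (h.loc y hy)
  obtain ⟨w, hw, hzw⟩ := exists_not_commute U hz
  exact ⟨w, hw, fun h1 => hzw h1.symm⟩

theorem thinLines_of_loc (hloc : ∀ y ∈ D, PerpSub (Loc D y)) : ThinLines D := by
  intro x hx y hy hxy hc z hz
  obtain ⟨hzD, hall⟩ := hz
  by_cases hzx : z = x
  · exact Or.inl hzx
  right
  have hxz : Commute x z := hall x hx (Commute.refl x) hc
  exact hloc x hx y ⟨hy, hxy.symm, hc⟩ z ⟨hzD, hzx, hxz⟩
    (fun d hd hdy => hall d hd.1 hd.2.2.symm hdy)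

theorem thin_N6 (h : N6 D) : ThinLines D := thinLines_of_loc (fun y hy => perpSub_U (h.loc y hy))

theorem thin_N7 (h : N7 D) : ThinLines D := thinLines_of_loc (fun y hy => perpSub_N6 (h.loc y hy))

/-! ### `O(⟨D_x⟩)` is central -/

theorem odd_central [Finite G] (F : FGroup D) (hc : 120 < D.ncard) {x : G} (hx : x ∈ D) :
    Cfsg.oddCore (HH D x) ≤ Subgroup.center (HH D x) := by
  by_contra hcon
  obtain ⟨e⟩ := Cfsg.Agent.S1615.result F.sol F.perf (isThree_of_fdata F.fd) x hx hcon
  have h1 : Nat.card G = 120 := by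
    rw [Nat.card_congr e.toEquiv, Nat.card_eq_fintype_card, Fintype.card_perm, Fintype.card_fin]
    rfl
  have h2 : D.ncard ≤ Nat.card G := by
    rw [← Set.ncard_univ]
    exact Set.ncard_le_ncard (Set.subset_univ _) (Set.toFinite _)
  omega

theorem inherit_N6 [Finite G] (F : FGroup D) (h : N6 D) {x : G} (hx : x ∈ D) :
    FGroup (Eb D x) :=
  inherit F (thin_N6 h) hx (odd_central F (by rw [h.card]; norm_num) hx)

theorem inherit_N7 [Finite G] (F : FGroup D) (h : N7 D) {x : G} (hx : x ∈ D) :
    FGroup (Eb D x) :=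
  inherit F (thin_N7 h) hx (odd_central F (by rw [h.card]; norm_num) hx)

theorem cIso_Eb (h : FData D) {x : G} (ht : ThinLines D) (hx : x ∈ D) :
    CIso (Loc D x) (Eb D x) := by
  have hth := thin_of_thinLines ht hx
  refine ⟨β D x, ⟨fun a ha => β_mem ha, fun a ha b hb hab => β_inj hth ha hb hab, ?_⟩, ?_⟩
  · intro c hc
    obtain ⟨a, ha, hac⟩ := β_surj hc
    exact ⟨a, ha, hac⟩
  · intro a ha b hb
    exact (β_commute h hth ha hb).symm

/-! ### Type `T7` : centralizers are generated by transpositions -/

theorem exists_lift {y x : G} (h : FData D) (hth : Thin D y) (hx : x ∈ Loc D y) {k : KK D y}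
    (hk : k ∈ LL (Eb D y) (β D y x)) :
    ∃ g ∈ HH D y, g ∈ LL D x ∧ β D y g = k := by
  rw [LL] at hk
  induction hk using Subgroup.closure_induction with
  | mem c hc =>
    obtain ⟨hc1, hc2⟩ := hc
    obtain ⟨d, hd, rfl⟩ := β_surj hc1
    exact ⟨d, mem_HH_of hd, mem_LL hd.1 ((β_commute h hth hd hx).1 hc2), rfl⟩
  | one => exact ⟨1, one_mem _, one_mem _, by rw [β_of (one_mem _)]; rfl⟩
  | mul a b _ _ ha hb =>
    obtain ⟨g, h1, h2, rfl⟩ := ha
    obtain ⟨k, h3, h4, rfl⟩ := hb
    exact ⟨g * k, mul_mem h1 h3, mul_mem h2 h4, β_mul h1 h3⟩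
  | inv a _ ha =>
    obtain ⟨g, h1, h2, rfl⟩ := ha
    exact ⟨g⁻¹, inv_mem h1, inv_mem h2, β_inv h1⟩

theorem cl_seven [Finite G] (F : FGroup D) (h : N7 D) : CLD D := by
  have R := rk_of_FGroup F
  have hT := tset_of_fdata R.fd
  have hθ := theta_N7 R.fd subset_rfl hT h
  refine cl_of_tri F ?_
  intro x a b A
  obtain ⟨p, hp, p0, p1, p2, -⟩ := exists_pl hT A
  have hperp := seven_perp hT h p hp
  obtain ⟨y, hy, hyp⟩ : (perp D p).Nonempty := by
    rw [Set.nonempty_iff_ne_empty]
    intro h1
    rw [h1, Set.ncard_empty] at hperp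
    norm_num at hperp
  have hyx : Commute y x := by rw [← p0]; exact hyp _
  have hya : Commute y a := by rw [← p1]; exact hyp _
  have hyb : Commute y b := by rw [← p2]; exact hyp _
  have hx' : x ∈ Loc D y := ⟨A.hx, by rintro rfl; exact A.xa hya, hyx⟩
  have ha' : a ∈ Loc D y := ⟨A.ha, by rintro rfl; exact A.ab hyb, hya⟩
  have hb' : b ∈ Loc D y := ⟨A.hb, by rintro rfl; exact A.ab hya.symm, hyb⟩
  have ht := thin_N7 h
  have hth := thin_of_thinLines ht hy
  have FE := inherit_N7 F h hy
  have NE : N6 (Eb D y) := n6_transport (cIso_Eb R.fd ht hy) (h.loc y hy)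
  have hCL := cl_six FE NE
  have hxH := mem_HH_of hx'
  have haH := mem_HH_of ha'
  have hbH := mem_HH_of hb'
  have htriH : tri x a b ∈ HH D y := by
    rw [tri, cj_def, cj_def, cj_def]
    exact mul_mem (mul_mem (mul_mem (mul_mem hxH hbH) (inv_mem hxH))
      (mul_mem (mul_mem haH hbH) (inv_mem haH))) (mul_mem (mul_mem hxH haH) (inv_mem hxH))
  have hcomm : Commute (tri x a b) x := by
    rw [A.tri_eq hT]
    exact (A.cc_commute_x hT).mul_left (Commute.refl x)
  have hβ : Commute (β D y (tri x a b)) (β D y x) := by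
    show β D y (tri x a b) * β D y x = β D y x * β D y (tri x a b)
    rw [← β_mul htriH hxH, ← β_mul hxH htriH, hcomm.eq]
  have h1 := hCL (β D y x) (β_mem hx') _ hβ
  obtain ⟨g, hgH, hgL, hg⟩ := exists_lift R.fd hth hx' h1
  -- the difference is in the centre of `HH D y`
  have h2 : ∀ d ∈ Loc D y, Commute (tri x a b * g⁻¹) d := by
    have h3 : β D y (tri x a b * g⁻¹) = 1 := by
      rw [β_mul htriH (inv_mem hgH), β_inv hgH, hg, mul_inv_cancel]
    rw [β_of (mul_mem htriH (inv_mem hgH)), QuotientGroup.eq_one_iff] at h3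
    intro d hd
    have h4 := Subgroup.mem_center_iff.1 h3 ⟨d, mem_HH_of hd⟩
    have h5 : d * (tri x a b * g⁻¹) = (tri x a b * g⁻¹) * d := congrArg Subtype.val h4
    exact h5.symm
  have h3 := kernel F hθ hy (c := tri x a b * g⁻¹)
    (commute_of_mem_HH (mul_mem htriH (inv_mem hgH))) h2
  have h4 : tri x a b * g⁻¹ ∈ LL D x := by
    rcases h3 with h3 | h3
    · rw [h3]; exact one_mem _
    · rw [h3]; exact mem_LL hy hyx
  have := mul_mem h4 hgL
  rwa [inv_mul_cancel_right] at this

/-! ### Counting -/

theorem card_eq_ncard_mul [Finite G] (h : FData D) {x : G} (hx : x ∈ D) :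
    Nat.card G = D.ncard * Nat.card (Subgroup.centralizer ({x} : Set G)) := by
  rw [Subgroup.card_eq_card_quotient_mul_card_subgroup (Subgroup.centralizer ({x} : Set G))]
  congr 1
  have hb : Function.Bijective (fun q : G ⧸ Subgroup.centralizer ({x} : Set G) =>
      (⟨cj q.out x, cj_mem h hx⟩ : ↥D)) := by
    constructor
    · intro q r hqr
      have h1 : cj q.out x = cj r.out x := congrArg Subtype.val hqr
      have h2 : Commute (q.out⁻¹ * r.out) x := by
        rw [← cj_eq_self_iff, cj_mul, ← h1, cj_inv_cj]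
      rw [← Quotient.out_eq q, ← Quotient.out_eq r]
      exact QuotientGroup.eq.2 (Subgroup.mem_centralizer_singleton_iff.2 h2.eq)
    · rintro ⟨d, hd⟩
      obtain ⟨g, hg⟩ := h.single x hx d hd
      refine ⟨(g : G ⧸ Subgroup.centralizer ({x} : Set G)), ?_⟩
      apply Subtype.ext
      show cj (Quotient.out (g : G ⧸ Subgroup.centralizer ({x} : Set G))) x = d
      obtain ⟨c, hc⟩ := QuotientGroup.mk_out_eq_mul (Subgroup.centralizer ({x} : Set G)) g
      rw [hc, cj_mul, cj_of_commute (Subgroup.mem_centralizer_singleton_iff.1 c.2)]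
      exact hg
  rw [Nat.card_congr (Equiv.ofBijective _ hb)]
  rfl

theorem LL_eq_centralizer (hCL : CLD D) {x : G} (hx : x ∈ D) :
    LL D x = Subgroup.centralizer ({x} : Set G) := by
  apply le_antisymm
  · intro g hg
    exact Subgroup.mem_centralizer_singleton_iff.2 (commute_of_mem_LL hg).eq
  · intro g hg
    exact hCL x hx g (Subgroup.mem_centralizer_singleton_iff.1 hg)

theorem mem_center_HH [Finite G] (F : FGroup D) (hθ : Theta D) {x : G} (hx : x ∈ D)
    {z : HH D x} : z ∈ Subgroup.center (HH D x) ↔ (z : G) = 1 ∨ (z : G) = x := by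
  constructor
  · intro hz
    apply kernel F hθ hx (commute_of_mem_HH z.2)
    intro d hd
    have h4 := Subgroup.mem_center_iff.1 hz ⟨d, mem_HH_of hd⟩
    have h5 : d * (z : G) = (z : G) * d := congrArg Subtype.val h4
    exact h5.symm
  · intro hz
    rw [Subgroup.mem_center_iff]
    intro g
    apply Subtype.ext
    show (g : G) * (z : G) = (z : G) * (g : G)
    rcases hz with hz | hz
    · rw [hz, mul_one, one_mul]
    · rw [hz]; exact (commute_of_mem_HH g.2).eq

theorem card_LL [Finite G] (F : FGroup D) (hθ : Theta D) {x : G} (hx : x ∈ D) :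
    Nat.card (LL D x) = 2 * Nat.card (KK D x) := by
  have h := F.fd
  have hx1 : x ≠ 1 := h.ne_one x hx
  have hxx := h.sq x hx
  have hKK : Nat.card (HH D x) = Nat.card (KK D x) * Nat.card (Subgroup.center (HH D x)) :=
    Subgroup.card_eq_card_quotient_mul_card_subgroup _
  -- members of `LL`
  have hmem : ∀ g : G, g ∈ LL D x ↔ g ∈ HH D x ∨ g * x ∈ HH D x := by
    intro g
    constructor
    · intro hg
      rw [LL] at hg
      have hcx : ∀ k ∈ HH D x, k * x = x * k := fun k hk => (commute_of_mem_HH hk).eq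
      induction hg using Subgroup.closure_induction with
      | mem d hd =>
        by_cases hdx : d = x
        · right; rw [hdx, hxx]; exact one_mem _
        · left; exact mem_HH_of ⟨hd.1, hdx, hd.2.symm⟩
      | one => exact Or.inl (one_mem _)
      | mul a b ha' _ ha hb =>
        have hax : a * x = x * a := by
          have : a ∈ LL D x := ha'
          exact (commute_of_mem_LL this).eq
        rcases ha with ha | ha <;> rcases hb with hb | hb
        · exact Or.inl (mul_mem ha hb)
        · right; rw [mul_assoc]; exact mul_mem ha hb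
        · right
          have e : a * b * x = (a * x) * b := by
            have hbx := hcx b hb
            rw [mul_assoc, hbx, ← mul_assoc]
          rw [e]; exact mul_mem ha hb
        · left
          have e : a * b = (a * x) * (b * x) := by
            have h1 : a * x * (b * x) = a * (x * (b * x)) := mul_assoc _ _ _
            have h2 : x * (b * x) = (b * x) * x := (hcx _ hb).symm
            rw [h1, h2, mul_assoc b x x, hxx, mul_one]
          rw [e]; exact mul_mem ha hb
      | inv a ha' ha =>
        have hax : a * x = x * a := by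
          have : a ∈ LL D x := ha'
          exact (commute_of_mem_LL this).eq
        rcases ha with ha | ha
        · exact Or.inl (inv_mem ha)
        · right
          have e : a⁻¹ * x = (a * x)⁻¹ := by
            rw [hax, mul_inv_rev, h.inv_eq hx]
          rw [e]; exact inv_mem ha
    · rintro (hg | hg)
      · exact HH_le_LL x hg
      · have := mul_mem (HH_le_LL x hg) (mem_LL (D := D) hx (Commute.refl x))
        rwa [mul_assoc, hxx, mul_one] at this
  by_cases hxH : x ∈ HH D x
  · have e1 : LL D x = HH D x := by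
      ext g
      rw [hmem]
      constructor
      · rintro (hg | hg)
        · exact hg
        · have := mul_mem hg hxH
          rwa [mul_assoc, hxx, mul_one] at this
      · exact Or.inl
    have e2 : Nat.card (Subgroup.center (HH D x)) = 2 := by
      have : ((Subgroup.center (HH D x) : Subgroup (HH D x)) : Set (HH D x)) =
          {1, ⟨x, hxH⟩} := by
        ext z
        rw [SetLike.mem_coe, mem_center_HH F hθ hx]
        constructor
        · rintro (hz | hz)
          · left; exact Subtype.ext hz
          · right; exact Subtype.ext hz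
        · rintro (rfl | rfl)
          · left; rfl
          · right; rfl
      have e3 : Nat.card (Subgroup.center (HH D x)) =
          ({1, ⟨x, hxH⟩} : Set (HH D x)).ncard := by
        rw [← this]; rfl
      rw [e3, Set.ncard_pair]
      intro h1
      exact hx1 (congrArg Subtype.val h1).symm
    rw [e1, hKK, e2, mul_comm]
  · have e2 : Nat.card (Subgroup.center (HH D x)) = 1 := by
      have : (Subgroup.center (HH D x) : Subgroup (HH D x)) = ⊥ := by
        rw [eq_bot_iff]
        intro z hz
        have hz2 := z.2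
        rcases (mem_center_HH F hθ hx).1 hz with hz | hz
        · exact Subgroup.mem_bot.2 (Subtype.ext hz)
        · rw [hz] at hz2
          exact absurd hz2 hxH
      rw [this]
      exact Subgroup.card_bot
    have e3 : ((LL D x : Subgroup G) : Set G) =
        (HH D x : Set G) ∪ (fun g => g * x) '' (HH D x : Set G) := by
      ext g
      rw [SetLike.mem_coe, hmem]
      constructor
      · rintro (hg | hg)
        · exact Or.inl hg
        · right
          exact ⟨g * x, hg, by show g * x * x = g; rw [mul_assoc, hxx, mul_one]⟩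
      · rintro (hg | ⟨k, hk, rfl⟩)
        · exact Or.inl hg
        · right
          show k * x * x ∈ _
          rw [mul_assoc, hxx, mul_one]
          exact hk
    have hdisj : Disjoint (HH D x : Set G) ((fun g => g * x) '' (HH D x : Set G)) := by
      rw [Set.disjoint_left]
      rintro g hg ⟨k, hk, hkg⟩
      have hkg' : k * x = g := hkg
      apply hxH
      have := mul_mem (inv_mem hk) hg
      rwa [← hkg', inv_mul_cancel_left] at this
    have e4 : Nat.card (LL D x) = ((LL D x : Subgroup G) : Set G).ncard := rfl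
    have e5 : Nat.card (HH D x) = ((HH D x : Subgroup G) : Set G).ncard := rfl
    rw [e4, e3, Set.ncard_union_eq hdisj (Set.toFinite _) (Set.toFinite _),
      Set.ncard_image_of_injective _ (mul_left_injective x), ← e5, hKK, e2]
    ring

theorem card_of_CLD [Finite G] (F : FGroup D) (hθ : Theta D) (hCL : CLD D) {x : G}
    (hx : x ∈ D) : Nat.card G = D.ncard * (2 * Nat.card (KK D x)) := by
  rw [card_eq_ncard_mul F.fd hx, ← LL_eq_centralizer hCL hx, card_LL F hθ hx]

/-! ### The orders -/

theorem card_PSU {F : Type} [Field F] [Fintype F] (hF : Fintype.card F = 4) :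
    Nat.card (PSU 6 F 2) = 9196830720 := by
  have h := Cfsg.Agent.S0280.result (F := F) (q := 2) (by rw [hF]; norm_num) 6 (by norm_num)
  have e1 : Nat.gcd 6 (2 + 1) = 3 := by decide
  have e2 : (2 : ℕ) ^ (6 * (6 - 1) / 2) * ∏ i ∈ Finset.range 6,
      (if Even i then 2 ^ (i + 1) + 1 else 2 ^ (i + 1) - 1) = 82771476480 := by
    simp only [Finset.prod_range_succ, Finset.prod_range_zero]
    rw [if_pos (by decide), if_neg (by decide), if_pos (by decide), if_neg (by decide),
      if_pos (by decide), if_neg (by decide)]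
    norm_num
  rw [e1, e2] at h
  omega

theorem card_of_isU [Finite G] (F : FGroup D) (hU : IsU 6 D) : Nat.card G = 9196830720 := by
  obtain ⟨L, i1, i2, f, U⟩ := exists_um hU
  have R := rk_of_FGroup F
  have hT := tset_of_fdata R.fd
  have hfin := U.fin
  obtain ⟨e, -⟩ := exists_equiv_psu F.fd
    (SporadicStructure.FischerPrimitive.center_eq_bot F.sol) (by
      intro a ha b hb hab c hc hall
      rcases um_hyp U F.fd subset_rfl (fun a ha b hb => hT.closed a ha b hb) (by norm_num)
        ha hb hab hc hall with h1 | h1 | h1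
      · exact Or.inl h1
      · exact Or.inr (Or.inl h1)
      · right; right
        rw [h1, cj_eq_mul F.fd ha]) U.card U.herm U.dim (by norm_num) f U.ne U.iso U.comm
    U.inj U.surj
  rw [Nat.card_congr e.toEquiv, card_PSU U.card]

theorem card_N6 [Finite G] (F : FGroup D) (h : N6 D) : Nat.card G = 64561751654400 := by
  have R := rk_of_FGroup F
  have hT := tset_of_fdata R.fd
  obtain ⟨x, hx⟩ := R.fd.nonempty
  have FE := inherit_N6 F h hx
  have hU : IsU 6 (Eb D x) := Fischer480.Transport.isU
    (Fischer480.Transport.CIso.symm (cIso_Eb R.fd (thin_N6 h) hx)) (h.loc x hx)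
  rw [card_of_CLD F (theta_N6 R.fd subset_rfl hT h) (cl_six F h) hx, card_of_isU FE hU, h.card]

theorem card_N7 [Finite G] (F : FGroup D) (h : N7 D) : Nat.card G = 4089470473293004800 := by
  have R := rk_of_FGroup F
  have hT := tset_of_fdata R.fd
  obtain ⟨x, hx⟩ := R.fd.nonempty
  have FE := inherit_N7 F h hx
  have NE : N6 (Eb D x) := n6_transport (cIso_Eb R.fd (thin_N7 h) hx) (h.loc x hx)
  rw [card_of_CLD F (theta_N7 R.fd subset_rfl hT h) (cl_seven F h) hx, card_N6 FE NE, h.card]

end Cfsg.Agent.TSp.Orders
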