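import Cfsg.Agent.TSp.Orders

set_option autoImplicit false

/-!
# The orders of the 3-transposition groups of types `T6` and `T7`, in the terms of
`Fischer480.Defs`
-/

namespace Cfsg.Agent.TSp.OrdersT

open Cfsg Cfsg.Agent.SporadicStructure.FischerSpace
open Cfsg.Agent.Fischer480.Defs Cfsg.Agent.TSp.Perp

universe u

variable {G : Type u} [Group G] {D : Set G}

theorem n6_of_isT6 {E : Set G} (h : IsT6 E) : N6 E :=
  ⟨h.1, h.2.1, fun x hx a ha hxa => h.2.2 x hx a ha hxa⟩

theorem n7_of_isT7 {E : Set G} (h : IsT7 E) : N7 E :=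
  ⟨h.1, fun x hx => n6_of_isT6 (h.2.1 x hx), fun x hx a ha hxa => h.2.2 x hx a ha hxa⟩

theorem inh (F : FGroup D) : Cfsg.Agent.Fischer160.Inherit.FGroup D :=
  ⟨fdata_of_class F.cls, F.sol, F.perf⟩

/-- **The order in case `T6`** (`Fi22`). -/
theorem card_T6 [Finite G] (F : FGroup D) (h : IsT6 D) : Nat.card G = 64561751654400 :=
  Cfsg.Agent.TSp.Orders.card_N6 (inh F) (n6_of_isT6 h)

/-- **The order in case `T7`** (`Fi23`). -/
theorem card_T7 [Finite G] (F : FGroup D) (h : IsT7 D) : Nat.card G = 4089470473293004800 :=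
  Cfsg.Agent.TSp.Orders.card_N7 (inh F) (n7_of_isT7 h)

end Cfsg.Agent.TSp.OrdersT
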